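/-
Involutions of symplectic groups in characteristic two: adapted tuples and conjugacy.

For an involution `g` put `N = g - 1` and `β (x, y) = B (x, N y)`, a symmetric form with radical `ker N`.
-/
import Cfsg.Agent.Lib.SympBlocks
import Cfsg.Agent.Lib.IsotropicSymp

set_option autoImplicit false
set_option linter.unusedSectionVars false
set_option linter.dupNamespace false

namespace CfsgLib.SympInv

open Matrix
open CfsgLib.SympGen (B bas B_map B_swap B_self B_add_left B_add_right B_smul_left B_smul_right)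

variable {F : Type*} [Field F] [CharP F 2] {m : ℕ}

local notation "Vec" => (Fin m ⊕ Fin m → F)
local notation "Sp" => Matrix.symplecticGroup (Fin m) F

theorem B_comm (x y : Vec) : B x y = B y x := by rw [B_swap, CharTwo.neg_eq]

theorem vec_sub (x y : Vec) : x - y = x + y := funext fun i => CharTwo.sub_eq_add (x i) (y i)

theorem vec_self (x : Vec) : x + x = 0 := funext fun i => CharTwo.add_self_eq_zero (x i)

theorem B_sum_right {ι : Type*} (s : Finset ι) (x : Vec) (f : ι → Vec) :
    B x (∑ i ∈ s, f i) = ∑ i ∈ s, B x (f i) := by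
  simp only [B, Matrix.mulVec_sum, dotProduct_sum]

theorem B_sum_left {ι : Type*} (s : Finset ι) (f : ι → Vec) (x : Vec) :
    B (∑ i ∈ s, f i) x = ∑ i ∈ s, B (f i) x := sum_dotProduct _ _ _

theorem eq_zero_of_B {u : Vec} (h : ∀ z, B z u = 0) : u = 0 := by
  by_contra hne
  obtain ⟨z, hz⟩ := SympTransvection.exists_dot_ne hne
  exact hz (h z)

/-- The linear map `g - 1`. -/
noncomputable def N (g : Sp) : Vec →ₗ[F] Vec := (g.1 - 1).mulVecLin

theorem N_apply (g : Sp) (x : Vec) : N g x = g.1 *ᵥ x + x := by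
  rw [N, Matrix.mulVecLin_apply, Matrix.sub_mulVec, Matrix.one_mulVec, vec_sub]

theorem apply_eq (g : Sp) (x : Vec) : g.1 *ᵥ x = N g x + x := by
  rw [N_apply, add_assoc, vec_self, add_zero]

/-- The rank of `g - 1`. -/
noncomputable def rk (g : Sp) : ℕ := (g.1 - 1).rank

theorem rk_eq (g : Sp) : rk g = Module.finrank F (LinearMap.range (N g)) := rfl

/-- The form `B (x, N y)`. -/
noncomputable def beta (g : Sp) (x y : Vec) : F := B x (N g y)

theorem beta_add_left (g : Sp) (x y z : Vec) : beta g (x + y) z = beta g x z + beta g y z := B_add_left _ _ _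

theorem beta_add_right (g : Sp) (x y z : Vec) : beta g x (y + z) = beta g x y + beta g x z := by
  rw [beta, map_add, B_add_right]; rfl

theorem beta_smul_left (g : Sp) (c : F) (x y : Vec) : beta g (c • x) y = c * beta g x y := B_smul_left _ _ _

theorem beta_smul_right (g : Sp) (c : F) (x y : Vec) : beta g x (c • y) = c * beta g x y := by
  rw [beta, map_smul, B_smul_right]; rfl

theorem beta_sum_left {ι : Type*} (s : Finset ι) (g : Sp) (f : ι → Vec) (x : Vec) :
    beta g (∑ i ∈ s, f i) x = ∑ i ∈ s, beta g (f i) x := B_sum_left _ _ _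

theorem beta_sum_right {ι : Type*} (s : Finset ι) (g : Sp) (x : Vec) (f : ι → Vec) :
    beta g x (∑ i ∈ s, f i) = ∑ i ∈ s, beta g x (f i) := by
  rw [beta, map_sum, B_sum_right]; rfl

section invol

variable {g : Matrix.symplecticGroup (Fin m) F} (hg : g * g = 1)
include hg

theorem apply_apply (x : Vec) : g.1 *ᵥ (g.1 *ᵥ x) = x := by
  rw [← SympGen.mul_apply, hg, SympGen.one_apply]

theorem N_N (x : Vec) : N g (N g x) = 0 := by
  rw [N_apply, N_apply, Matrix.mulVec_add, apply_apply hg, add_comm x (g.1 *ᵥ x), vec_self]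

theorem B_N (x y : Vec) : B (N g x) y = B x (N g y) := by
  have h : B x (g.1 *ᵥ y) = B (g.1 *ᵥ x) y := by
    rw [← B_map g x (g.1 *ᵥ y), apply_apply hg]
  rw [N_apply, N_apply, B_add_left, B_add_right, h]

theorem B_N_N (x y : Vec) : B (N g x) (N g y) = 0 := by
  rw [B_N hg, N_N hg]; simp [B]

theorem beta_comm (x y : Vec) : beta g x y = beta g y x := by
  rw [beta, beta, ← B_N hg x y, B_comm]

end invol

/-- The form of `g` is alternating. -/
def Alt (g : Sp) : Prop := ∀ x : Vec, beta g x x = 0

theorem alt_iff (g : Sp) : Alt g ↔ ∀ x : Vec, Cfsg.sympForm m F x (g.1 *ᵥ x) = 0 := by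
  refine forall_congr' fun x => ?_
  show B x (N g x) = 0 ↔ B x (g.1 *ᵥ x) = 0
  rw [N_apply, B_add_right, B_self, add_zero]

variable {ι : Type*} [Fintype ι] [DecidableEq ι]

/-- A tuple with a given Gram matrix. -/
def Gram (g : Sp) (C : Matrix ι ι F) (w : ι → Vec) : Prop := ∀ i j, beta g (w i) (w j) = C i j

/-- An isotropic tuple with a given Gram matrix. -/
def Adapted (g : Sp) (C : Matrix ι ι F) (v : ι → Vec) : Prop :=
  (∀ i j, B (v i) (v j) = 0) ∧ Gram g C v

theorem Gram.submatrix {κ : Type*} {g : Sp} {C : Matrix ι ι F} {w : ι → Vec} (h : Gram g C w) (e : κ → ι) :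
    Gram g (C.submatrix e e) (w ∘ e) := fun i j => h (e i) (e j)

section tuples

variable {g : Matrix.symplecticGroup (Fin m) F} {C : Matrix ι ι F} {w : ι → Fin m ⊕ Fin m → F}
  (hw : Gram g C w) (hC : IsUnit C.det)
include hw hC

theorem coef_unique {c : ι → F} {x : Vec} (h : N g x = ∑ l, c l • N g (w l)) :
    c = C⁻¹ *ᵥ fun i => beta g (w i) x := by
  have h1 : (fun i => beta g (w i) x) = C *ᵥ c := by
    funext i
    rw [beta, h, B_sum_right]
    refine Finset.sum_congr rfl fun l _ => ?_
    rw [B_smul_right, mul_comm]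
    exact congrArg (· * c l) (hw i l)
  rw [h1, Matrix.mulVec_mulVec, Matrix.nonsing_inv_mul _ hC, Matrix.one_mulVec]

theorem indep : LinearIndependent F fun i => N g (w i) := by
  refine Fintype.linearIndependent_iff.2 fun c hc i => ?_
  have := coef_unique hw hC (c := c) (x := 0) (by rw [map_zero, hc])
  rw [this]
  simp [beta, B, Matrix.mulVec, dotProduct]

theorem card_le : Fintype.card ι ≤ rk g := by
  rw [rk_eq, ← finrank_span_eq_card (indep hw hC)]
  refine Submodule.finrank_mono (Submodule.span_le.2 ?_)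
  rintro _ ⟨i, rfl⟩
  exact ⟨w i, rfl⟩

theorem N_eq (hr : rk g = Fintype.card ι) (x : Vec) :
    N g x = ∑ l, (C⁻¹ *ᵥ fun i => beta g (w i) x) l • N g (w l) := by
  have heq : Submodule.span F (Set.range fun i => N g (w i)) = LinearMap.range (N g) := by
    refine Submodule.eq_of_le_of_finrank_eq (Submodule.span_le.2 ?_) ?_
    · rintro _ ⟨i, rfl⟩; exact ⟨w i, rfl⟩
    · rw [finrank_span_eq_card (indep hw hC), ← rk_eq, hr]
  have hx : N g x ∈ Submodule.span F (Set.range fun i => N g (w i)) := by rw [heq]; exact ⟨x, rfl⟩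
  obtain ⟨c, hc⟩ := (Submodule.mem_span_range_iff_exists_fun F).1 hx
  rw [← coef_unique hw hC hc.symm, hc]

variable (hg : g * g = 1)
include hg

theorem residual (hlt : Fintype.card ι < rk g) :
    ∃ x y : Vec, (∀ i, beta g (w i) x = 0) ∧ (∀ i, beta g (w i) y = 0) ∧ beta g x y ≠ 0 := by
  by_contra hcon
  push Not at hcon
  let c : Vec → ι → F := fun x => C⁻¹ *ᵥ fun i => beta g (w i) x
  let p : Vec → Vec := fun x => x + ∑ l, c x l • w l
  have horth : ∀ x i, beta g (w i) (p x) = 0 := by
    intro x i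
    have : ∑ l, c x l * C i l = beta g (w i) x := by
      have := congrFun (show C *ᵥ c x = fun i => beta g (w i) x by
        rw [Matrix.mulVec_mulVec, Matrix.mul_nonsing_inv _ hC, Matrix.one_mulVec]) i
      rw [← this]
      exact Finset.sum_congr rfl fun l _ => mul_comm _ _
    rw [beta_add_right, beta_sum_right]
    simp only [beta_smul_right, hw i _, this]
    exact CharTwo.add_self_eq_zero _
  have hzero : ∀ x, N g (p x) = 0 := fun x => eq_zero_of_B fun y => by
    have h1 := hcon (p y) (p x) (horth y) (horth x)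
    show beta g y (p x) = 0
    rw [beta_add_left, beta_sum_left] at h1
    simpa [beta_smul_left, horth] using h1
  have hle : LinearMap.range (N g) ≤ Submodule.span F (Set.range fun i => N g (w i)) := by
    rintro _ ⟨x, rfl⟩
    have h2 : N g x = ∑ l, c x l • N g (w l) := by
      have := hzero x
      rw [map_add, map_sum] at this
      simp only [map_smul] at this
      rw [← sub_eq_zero, vec_sub, this]
    rw [h2]
    exact Submodule.sum_mem _ fun l _ => Submodule.smul_mem _ _ (Submodule.subset_span ⟨l, rfl⟩)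
  have := Submodule.finrank_mono hle
  rw [finrank_span_eq_card (indep hw hC), ← rk_eq] at this
  omega

theorem exists_adapted (hsymm : Cᵀ = C) : ∃ v : ι → Vec, Adapted g C v := by
  let f := Fintype.equivFin ι
  let U : Matrix ι ι F := Matrix.of fun i j => if f i < f j then B (w i) (w j) else 0
  let M := U * C⁻¹
  have hMC : M * C = U := Matrix.nonsing_inv_mul_cancel_right C U hC
  have hCM : C * Mᵀ = Uᵀ := by
    have := congrArg Matrix.transpose hMC
    rwa [Matrix.transpose_mul, hsymm] at this
  refine ⟨fun i => w i + ∑ l, M i l • N g (w l), fun i j => ?_, fun i j => ?_⟩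
  · have h1 : ∑ l, M j l * B (w i) (N g (w l)) = U j i := by
      rw [← Matrix.transpose_apply U, ← hCM, Matrix.mul_apply]
      exact Finset.sum_congr rfl fun l _ => by rw [Matrix.transpose_apply, mul_comm, ← hw i l]; rfl
    have h2 : ∑ l, M i l * B (N g (w l)) (w j) = U i j := by
      rw [← hMC, Matrix.mul_apply]
      exact Finset.sum_congr rfl fun l _ => by rw [B_N hg, ← hw l j]; rfl
    simp only [B_add_left, B_add_right, B_sum_left, B_sum_right, B_smul_left, B_smul_right, B_N_N hg,
      mul_zero, Finset.sum_const_zero, add_zero, h1, h2]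
    simp only [U, Matrix.of_apply]
    rcases lt_trichotomy (f i) (f j) with h | h | h
    · rw [if_neg (not_lt.2 h.le), if_pos h, add_zero, CharTwo.add_self_eq_zero]
    · obtain rfl := f.injective h
      rw [if_neg (lt_irrefl _), B_self]
      simp
    · rw [if_pos h, if_neg (not_lt.2 h.le), add_zero, B_comm (w i), CharTwo.add_self_eq_zero]
  · have hN : ∀ k, N g (w k + ∑ l, M k l • N g (w l)) = N g (w k) := fun k => by
      rw [map_add, map_sum]
      simp [N_N hg]
    show B _ (N g _) = _
    rw [hN]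
    simp only [B_add_left, B_sum_left, B_smul_left, B_N_N hg, mul_zero, Finset.sum_const_zero, add_zero]
    exact hw i j

end tuples

/-- The linear combinations of a tuple and its images. -/
noncomputable def L (g : Sp) (v : ι → Vec) : (ι ⊕ ι → F) →ₗ[F] Vec :=
  Fintype.linearCombination F (Sum.elim v fun i => N g (v i))

theorem L_single (g : Sp) (v : ι → Vec) (p : ι ⊕ ι) :
    L g v (Pi.single p 1) = Sum.elim v (fun i => N g (v i)) p := by
  rw [L, Fintype.linearCombination_apply_single, one_smul]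

theorem B_L {g : Sp} (hg : g * g = 1) {C : Matrix ι ι F} {v : ι → Vec} (hv : Adapted g C v) (p q : ι ⊕ ι) :
    B (Sum.elim v (fun i => N g (v i)) p) (Sum.elim v (fun i => N g (v i)) q) =
      Matrix.fromBlocks 0 C C 0 p q := by
  rcases p with i | i <;> rcases q with j | j
  · simpa using hv.1 i j
  · simp only [Sum.elim_inl, Sum.elim_inr, Matrix.fromBlocks_apply₁₂]; exact hv.2 i j
  · simp only [Sum.elim_inr, Sum.elim_inl, Matrix.fromBlocks_apply₂₁]
    rw [B_N hg]; exact hv.2 i j
  · simpa using B_N_N hg (v i) (v j)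

theorem B_L_L {g : Sp} (hg : g * g = 1) {C : Matrix ι ι F} {v : ι → Vec} (hv : Adapted g C v) (c d : ι ⊕ ι → F) :
    B (L g v c) (L g v d) = ∑ p, ∑ q, c p * (d q * Matrix.fromBlocks 0 C C 0 p q) := by
  rw [L, Fintype.linearCombination_apply, Fintype.linearCombination_apply, B_sum_left]
  refine Finset.sum_congr rfl fun p _ => ?_
  rw [B_smul_left, B_sum_right, Finset.mul_sum]
  refine Finset.sum_congr rfl fun q _ => ?_
  rw [B_smul_right, B_L hg hv]

theorem L_injective {g : Sp} (hg : g * g = 1) {C : Matrix ι ι F} (hC : IsUnit C.det) {v : ι → Vec}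
    (hv : Adapted g C v) : Function.Injective (L g v) := by
  refine (injective_iff_map_eq_zero _).2 fun c hc => ?_
  have h : (Matrix.fromBlocks 0 C C 0 : Matrix (ι ⊕ ι) (ι ⊕ ι) F) *ᵥ c = 0 := by
    funext p
    have h1 : B (Sum.elim v (fun i => N g (v i)) p) (L g v c) = 0 := by rw [hc]; simp [B]
    rw [L, Fintype.linearCombination_apply, B_sum_right] at h1
    simp only [B_smul_right, B_L hg hv] at h1
    rw [Pi.zero_apply, ← h1]
    exact Finset.sum_congr rfl fun q _ => mul_comm _ _
  rw [Matrix.fromBlocks_mulVec] at h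
  simp only [Matrix.zero_mulVec, zero_add, add_zero] at h
  have hinj : Function.Injective C.mulVec :=
    Matrix.mulVec_injective_iff_isUnit.2 ((Matrix.isUnit_iff_isUnit_det C).2 hC)
  have h1 : C *ᵥ (c ∘ Sum.inr) = 0 := funext fun i => congrFun h (Sum.inl i)
  have h2 : C *ᵥ (c ∘ Sum.inl) = 0 := funext fun i => congrFun h (Sum.inr i)
  rw [← Matrix.mulVec_zero C] at h1 h2
  funext p
  rcases p with i | i
  · exact congrFun (hinj h2) i
  · exact congrFun (hinj h1) i

theorem card_le_m {g : Sp} (hg : g * g = 1) {C : Matrix ι ι F} (hC : IsUnit C.det) {v : ι → Vec}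
    (hv : Adapted g C v) : Fintype.card ι ≤ m := by
  have := LinearMap.finrank_le_finrank_of_injective (L_injective hg hC hv)
  simp only [Module.finrank_fintype_fun_eq_card, Fintype.card_sum, Fintype.card_fin] at this
  omega

/-- Two involutions with adapted tuples of the same Gram matrix are conjugate. -/
theorem conj_of_adapted {a b : Sp} (ha : a * a = 1) (hb : b * b = 1) {C : Matrix ι ι F} (hC : IsUnit C.det)
    {v v' : ι → Vec} (hv : Adapted a C v) (hv' : Adapted b C v') (hra : rk a = Fintype.card ι)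
    (hrb : rk b = Fintype.card ι) :
    ∃ g : Sp, g * a * g⁻¹ = b ∧ ∀ i, g.1 *ᵥ v i = v' i := by
  let e := LinearEquiv.ofInjective (L a v) (L_injective ha hC hv)
  let φ : LinearMap.range (L a v) →ₗ[F] Vec := (L b v').comp e.symm.toLinearMap
  obtain ⟨g, hgx⟩ := IsotropicCount.symp_extend (LinearMap.range (L a v)) φ
    ((L_injective hb hC hv').comp e.symm.injective) (fun x x' => by
      obtain ⟨c, rfl⟩ := e.surjective x
      obtain ⟨d, rfl⟩ := e.surjective x'
      show B (φ (e c)) (φ (e d)) = B (L a v c) (L a v d)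
      simp only [φ, LinearMap.comp_apply, LinearEquiv.coe_coe, LinearEquiv.symm_apply_apply,
        B_L_L ha hv, B_L_L hb hv'])
  have hL : ∀ c, g.1 *ᵥ L a v c = L b v' c := fun c => by
    have := hgx (e c)
    simpa [φ, e] using this
  have h1 : ∀ i, g.1 *ᵥ v i = v' i := fun i => by
    have := hL (Pi.single (Sum.inl i) 1)
    rwa [L_single, L_single] at this
  have h2 : ∀ i, g.1 *ᵥ N a (v i) = N b (v' i) := fun i => by
    have := hL (Pi.single (Sum.inr i) 1)
    rwa [L_single, L_single] at this
  refine ⟨g, ?_, h1⟩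
  rw [mul_inv_eq_iff_eq_mul]
  refine Subtype.ext (Matrix.toLin'.injective (LinearMap.ext fun x => ?_))
  show (g * a).1 *ᵥ x = (b * g).1 *ᵥ x
  rw [SympGen.mul_apply, SympGen.mul_apply, apply_eq a, apply_eq b, Matrix.mulVec_add]
  congr 1
  rw [N_eq hv.2 hC hra x, N_eq hv'.2 hC hrb (g.1 *ᵥ x), Matrix.mulVec_sum]
  refine Finset.sum_congr rfl fun l _ => ?_
  rw [Matrix.mulVec_smul, h2]
  congr 2
  funext i
  show B (v i) (N a x) = B (v' i) (N b (g.1 *ᵥ x))
  rw [← B_N ha, ← B_N hb, ← h2, B_map]

/-! ### Existence of tuples -/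

variable [Finite F]

theorem exists_sqrt (a : F) : ∃ b : F, b ^ 2 = a := by
  haveI : Fact (2 : ℕ).Prime := ⟨Nat.prime_two⟩
  exact (Finite.injective_iff_surjective.1 (frobenius_inj F 2)) a

theorem exists_gram_one {g : Sp} (hg : g * g = 1) (hna : ¬ Alt g) :
    ∀ k, k ≤ rk g → ∃ w : Fin k → Vec, Gram g 1 w ∧
      (k < rk g → ∃ x, (∀ i, beta g (w i) x = 0) ∧ beta g x x ≠ 0) := by
  intro k
  induction k with
  | zero =>
    intro _
    obtain ⟨x, hx⟩ := not_forall.1 hna
    exact ⟨Fin.elim0, fun i => i.elim0, fun _ => ⟨x, fun i => i.elim0, hx⟩⟩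
  | succ k ih =>
    intro hk
    obtain ⟨w, hw, hx⟩ := ih (by omega)
    obtain ⟨x, hxw, hxx⟩ := hx (by omega)
    obtain ⟨s, hs⟩ := exists_sqrt (beta g x x)
    have hs0 : s ≠ 0 := fun h => hxx (by rw [← hs, h]; simp)
    set e := s⁻¹ • x with he
    have hee : beta g e e = 1 := by
      rw [he, beta_smul_left, beta_smul_right, ← hs]
      field_simp
    have hew : ∀ i, beta g (w i) e = 0 := fun i => by rw [he, beta_smul_right, hxw, mul_zero]
    have mk : ∀ e : Vec, beta g e e = 1 → (∀ i, beta g (w i) e = 0) →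
        Gram g 1 (Fin.snoc w e : Fin (k + 1) → Vec) := by
      intro e h1 h2 i j
      cases i using Fin.lastCases <;> cases j using Fin.lastCases
      · simpa using h1
      · simp [Matrix.one_apply, beta_comm hg e, h2, (Fin.castSucc_lt_last _).ne']
      · simp [Matrix.one_apply, h2, (Fin.castSucc_lt_last _).ne]
      · simpa [Matrix.one_apply] using hw _ _
    by_cases hres : ∃ y, (∀ i, beta g (w i) y = 0) ∧ beta g e y = 0 ∧ beta g y y ≠ 0
    · obtain ⟨y, y1, y2, y3⟩ := hres
      refine ⟨Fin.snoc w e, mk e hee hew, fun _ => ⟨y, fun i => ?_, y3⟩⟩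
      cases i using Fin.lastCases <;> simp [y1, y2]
    · by_cases hlt : k + 1 < rk g
      · push Not at hres
        obtain ⟨f, h, hf, hh, hfh⟩ := residual (mk e hee hew) (by simp) hg (by simpa using hlt)
        have hfl : beta g e f = 0 := by simpa using hf (Fin.last k)
        have hfw : ∀ i, beta g (w i) f = 0 := fun i => by simpa using hf i.castSucc
        have hhl : beta g e h = 0 := by simpa using hh (Fin.last k)
        have hhw : ∀ i, beta g (w i) h = 0 := fun i => by simpa using hh i.castSucc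
        set h' := (beta g f h)⁻¹ • h with hh'
        have hff : beta g f f = 0 := hres f hfw hfl
        have hh'h : beta g h' h' = 0 := by
          rw [hh', beta_smul_left, beta_smul_right, hres h hhw hhl, mul_zero, mul_zero]
        have hfh' : beta g f h' = 1 := by rw [hh', beta_smul_right, inv_mul_cancel₀ hfh]
        have heh' : beta g e h' = 0 := by rw [hh', beta_smul_right, hhl, mul_zero]
        have hh'w : ∀ i, beta g (w i) h' = 0 := fun i => by rw [hh', beta_smul_right, hhw, mul_zero]
        refine ⟨Fin.snoc w (e + f), mk _ ?_ ?_, fun _ => ⟨e + h', fun i => ?_, ?_⟩⟩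
        · rw [beta_add_left, beta_add_right, beta_add_right, hee, hfl, beta_comm hg f e, hfl, hff]
          simp
        · intro i; rw [beta_add_right, hew, hfw, add_zero]
        · cases i using Fin.lastCases with
          | last =>
            rw [Fin.snoc_last, beta_add_left, beta_add_right, beta_add_right, hee, heh', beta_comm hg f e, hfl,
              hfh', zero_add, add_zero, CharTwo.add_self_eq_zero]
          | cast i => rw [Fin.snoc_castSucc, beta_add_right, hew, hh'w, add_zero]
        · rw [beta_add_left, beta_add_right, beta_add_right, hee, heh', beta_comm hg h' e, heh', hh'h]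
          simp
      · exact ⟨Fin.snoc w e, mk e hee hew, fun h => absurd h hlt⟩

theorem exists_gram_J {g : Sp} (hg : g * g = 1) (ha : Alt g) :
    ∀ r, 2 * r ≤ rk g + 1 → ∃ w : Fin r ⊕ Fin r → Vec, Gram g (Matrix.J (Fin r) F) w := by
  intro r
  induction r with
  | zero => exact fun _ => ⟨fun i => i.elim Fin.elim0 Fin.elim0, fun i => i.elim (fun a => a.elim0) fun a => a.elim0⟩
  | succ r ih =>
    intro hr
    obtain ⟨w, hw⟩ := ih (by omega)
    obtain ⟨x, y, hx, hy, hxy⟩ := residual hw (Matrix.isUnit_det_J _ _) hg (by simp; omega)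
    set y' := (beta g x y)⁻¹ • y with hy'
    have hy'w : ∀ i, beta g (w i) y' = 0 := fun i => by rw [hy', beta_smul_right, hy, mul_zero]
    have hxy' : beta g x y' = 1 := by rw [hy', beta_smul_right, inv_mul_cancel₀ hxy]
    refine ⟨Sum.elim (Fin.snoc (w ∘ Sum.inl) x) (Fin.snoc (w ∘ Sum.inr) y'), fun i j => ?_⟩
    have e : ∀ a b, beta g (w a) (w b) = Matrix.J (Fin r) F a b := hw
    rcases i with i | i <;> rcases j with j | j <;> cases i using Fin.lastCases <;>
      cases j using Fin.lastCases <;>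
      simp [Matrix.J, Matrix.one_apply, e, hx, hy'w, hxy', ha x, ha y', beta_comm hg x (w _),
        beta_comm hg y' (w _), beta_comm hg y' x, CharTwo.neg_eq, (Fin.castSucc_lt_last _).ne,
        (Fin.castSucc_lt_last _).ne']

theorem rk_alt {g : Sp} (hg : g * g = 1) (ha : Alt g) :
    ∃ r, rk g = r + r ∧ ∃ v : Fin r ⊕ Fin r → Vec, Adapted g (Matrix.J (Fin r) F) v := by
  obtain ⟨w, hw⟩ := exists_gram_J hg ha ((rk g + 1) / 2) (by omega)
  have hle := card_le hw (Matrix.isUnit_det_J _ _)
  simp only [Fintype.card_sum, Fintype.card_fin] at hle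
  refine ⟨(rk g + 1) / 2, by omega, exists_adapted hw (Matrix.isUnit_det_J _ _) hg ?_⟩
  rw [Matrix.J_transpose]
  ext i j
  exact CharTwo.neg_eq _

theorem adapted_one {g : Sp} (hg : g * g = 1) (hna : ¬ Alt g) :
    ∃ v : Fin (rk g) → Vec, Adapted g (1 : Matrix (Fin (rk g)) (Fin (rk g)) F) v := by
  obtain ⟨w, hw, -⟩ := exists_gram_one hg hna (rk g) le_rfl
  exact exists_adapted hw (by simp) hg Matrix.transpose_one

/-- Conjugacy of involutions. -/
theorem isConj_iff {a b : Sp} (ha : a * a = 1) (hb : b * b = 1) :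
    IsConj a b ↔ rk a = rk b ∧ (Alt a ↔ Alt b) := by
  constructor
  · rintro h
    obtain ⟨g, rfl⟩ := _root_.isConj_iff.1 h
    have hN : ∀ x, N (g * a * g⁻¹) (g.1 *ᵥ x) = g.1 *ᵥ N a x := by
      intro x
      rw [N_apply, N_apply, ← SympGen.mul_apply, inv_mul_cancel_right, SympGen.mul_apply, Matrix.mulVec_add]
    have hgu : IsUnit (g : Matrix (Fin m ⊕ Fin m) (Fin m ⊕ Fin m) F).det := SymplecticGroup.symplectic_det g.2
    constructor
    · have h1 : ((g * a * g⁻¹ : Sp).1 - 1) * g.1 = g.1 * (a.1 - 1) := by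
        rw [Matrix.sub_mul, Matrix.mul_sub, Matrix.one_mul, Matrix.mul_one]
        congr 1
        exact congrArg Subtype.val (inv_mul_cancel_right (g * a) g)
      show (a.1 - 1).rank = ((g * a * g⁻¹ : Sp).1 - 1).rank
      rw [← Matrix.rank_mul_eq_right_of_isUnit_det g.1 (a.1 - 1) hgu, ← h1,
        Matrix.rank_mul_eq_left_of_isUnit_det _ _ hgu]
    · have hbeta : ∀ x, beta (g * a * g⁻¹) (g.1 *ᵥ x) (g.1 *ᵥ x) = beta a x x := fun x => by
        rw [beta, hN, B_map]; rfl
      refine ⟨fun h x => ?_, fun h x => by rw [← hbeta]; exact h _⟩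
      obtain ⟨y, rfl⟩ : ∃ y, g.1 *ᵥ y = x := ⟨(g⁻¹).1 *ᵥ x, by
        rw [← SympGen.mul_apply, mul_inv_cancel, SympGen.one_apply]⟩
      rw [hbeta]; exact h y
  · rintro ⟨hr, halt⟩
    by_cases h : Alt a
    · obtain ⟨r, hra, v, hv⟩ := rk_alt ha h
      obtain ⟨r', hrb, v', hv'⟩ := rk_alt hb (halt.1 h)
      obtain rfl : r = r' := by omega
      obtain ⟨g, hg, -⟩ := conj_of_adapted ha hb (Matrix.isUnit_det_J _ _) hv hv' (by simpa using hra)
        (by simpa using hrb)
      exact _root_.isConj_iff.2 ⟨g, hg⟩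
    · obtain ⟨v, hv⟩ := adapted_one ha h
      obtain ⟨v', hv'⟩ := adapted_one hb (fun hh => h (halt.2 hh))
      obtain ⟨g, hg, -⟩ := conj_of_adapted (v' := v' ∘ Fin.cast hr) ha hb (by simp) hv
        ⟨fun i j => hv'.1 _ _, fun i j => by
          show beta b (v' (Fin.cast hr i)) (v' (Fin.cast hr j)) = _
          rw [hv'.2]; simp [Matrix.one_apply]⟩ (by simp) (by simpa using hr.symm)
      exact _root_.isConj_iff.2 ⟨g, hg⟩

end CfsgLib.SympInv
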