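/-
Standard involutions of symplectic groups in characteristic two.
-/
import Cfsg.Agent.Lib.SympInvolution.Basic

set_option autoImplicit false
set_option linter.unusedSectionVars false
set_option linter.dupNamespace false

namespace CfsgLib.SympInv

open Matrix
open CfsgLib.SympGen (B bas B_map B_add_left B_add_right B_smul_left B_smul_right)
open CfsgLib.SympBlocks (e blk)

variable {F : Type*} [Field F] [CharP F 2]

section std

variable {s b : ℕ} (C : Matrix (Fin s) (Fin s) F) (hCs : Cᵀ = C)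

/-- The involution `[[1, C], [0, 1]]`. -/
def uni : Matrix.symplecticGroup (Fin s) F :=
  ⟨Matrix.fromBlocks 1 C 0 1, by
    have hC : Cᵀ = C := hCs
    have h2 : -C = C := by ext i j; exact CharTwo.neg_eq _
    have h3 : C + C = 0 := by ext i j; exact CharTwo.add_self_eq_zero _
    rw [SymplecticGroup.mem_iff, Matrix.J, Matrix.fromBlocks_transpose, Matrix.fromBlocks_multiply,
      Matrix.fromBlocks_multiply]
    simp [hC, h2, h3]⟩

/-- The standard involution. -/
def std (b : ℕ) : Matrix.symplecticGroup (Fin (s + b)) F := SympBlocks.Φ s b (uni C hCs, 1)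

/-- The standard adapted tuple. -/
def tup (F : Type*) [Field F] (s b : ℕ) (j : Fin s) : Fin (s + b) ⊕ Fin (s + b) → F :=
  bas ((e s b).symm (Sum.inl (Sum.inr j)))

theorem uni_sq : uni C hCs * uni C hCs = 1 := by
  apply Subtype.ext
  show Matrix.fromBlocks 1 C 0 1 * Matrix.fromBlocks 1 C 0 1 = 1
  have h3 : C + C = 0 := by ext i j; exact CharTwo.add_self_eq_zero _
  simp [Matrix.fromBlocks_multiply, h3]

theorem std_sq : std C hCs b * std C hCs b = 1 := by
  rw [std, ← map_mul, Prod.mk_mul_mk, uni_sq, one_mul, Prod.mk_one_one, map_one]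

theorem sub_one_apply (P Q : (Fin s ⊕ Fin s) ⊕ (Fin b ⊕ Fin b)) :
    ((std C hCs b).1 - 1) ((e s b).symm P) ((e s b).symm Q) =
      Matrix.fromBlocks (Matrix.fromBlocks 0 C 0 0) 0 0 0 P Q := by
  have h := congrFun (congrFun (SympBlocks.blk_Φ (uni C hCs, (1 : Matrix.symplecticGroup (Fin b) F))) P) Q
  simp only [blk, Matrix.submatrix_apply] at h
  rw [Matrix.sub_apply, std, h]
  rcases P with (p | p) | (p | p) <;> rcases Q with (q | q) | (q | q) <;>
    simp [uni, Matrix.one_apply, Matrix.sub_apply]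

theorem N_std (x : Fin (s + b) ⊕ Fin (s + b) → F) (P : (Fin s ⊕ Fin s) ⊕ (Fin b ⊕ Fin b)) :
    N (std C hCs b) x ((e s b).symm P) =
      Sum.elim (Sum.elim (C *ᵥ fun j => x ((e s b).symm (Sum.inl (Sum.inr j)))) 0) 0 P := by
  rw [N, Matrix.mulVecLin_apply, Matrix.mulVec, dotProduct, ← (e s b).symm.sum_comp]
  simp only [sub_one_apply, Fintype.sum_sum_type]
  rcases P with (p | p) | p <;> simp [Matrix.mulVec, dotProduct]

theorem N_tup (j : Fin s) :
    N (std C hCs b) (tup F s b j) = ∑ i, C i j • bas ((e s b).symm (Sum.inl (Sum.inl i))) := by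
  funext r
  obtain ⟨P, rfl⟩ := (e s b).symm.surjective r
  rw [N_std]
  rcases P with (p | p) | p <;>
    simp [tup, bas, Pi.single_apply, Matrix.mulVec, dotProduct, Finset.sum_apply]

theorem B_bas_e (P Q : (Fin s ⊕ Fin s) ⊕ (Fin b ⊕ Fin b)) :
    B (bas (F := F) ((e s b).symm P)) (bas ((e s b).symm Q)) =
      Matrix.fromBlocks (Matrix.J (Fin s) F) 0 0 (Matrix.J (Fin b) F) P Q := by
  rw [← SympBlocks.blk_J, blk, Matrix.submatrix_apply]
  simp [B, bas]

theorem adapted_std : Adapted (std C hCs b) C (tup F s b) := by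
  refine ⟨fun i j => ?_, fun i j => ?_⟩
  · rw [tup, tup, B_bas_e]; simp [Matrix.J]
  · rw [beta, N_tup, B_sum_right, Finset.sum_eq_single i]
    · rw [B_smul_right, tup, B_bas_e]; simp [Matrix.J]
    · intro l _ hl
      rw [B_smul_right, tup, B_bas_e]; simp [Matrix.J, Ne.symm hl]
    · simp

theorem rk_std (hC : IsUnit C.det) : rk (std C hCs b) = s := by
  refine le_antisymm ?_ ?_
  · rw [rk_eq]
    let L : (Fin s → F) →ₗ[F] (Fin (s + b) ⊕ Fin (s + b) → F) :=
      Fintype.linearCombination F fun i => bas ((e s b).symm (Sum.inl (Sum.inl i)))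
    refine (Submodule.finrank_mono (t := LinearMap.range L) ?_).trans
      ((LinearMap.finrank_range_le L).trans (le_of_eq (by simp)))
    rintro _ ⟨x, rfl⟩
    refine ⟨C *ᵥ fun j => x ((e s b).symm (Sum.inl (Sum.inr j))), funext fun r => ?_⟩
    obtain ⟨P, rfl⟩ := (e s b).symm.surjective r
    rw [N_std]
    rcases P with (p | p) | p <;>
      simp [L, Fintype.linearCombination_apply, bas, Pi.single_apply, Finset.sum_apply]
  · have := card_le (adapted_std C hCs (b := b)).2 hC
    simpa using this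

include hCs in
theorem exists_std {m : ℕ} (hs : s ≤ m) (hC : IsUnit C.det) :
    ∃ t : Matrix.symplecticGroup (Fin m) F, t * t = 1 ∧ rk t = s ∧ ∃ v, Adapted t C v := by
  obtain ⟨b, rfl⟩ := Nat.exists_eq_add_of_le hs
  exact ⟨std C hCs b, std_sq C hCs, rk_std C hCs hC, _, adapted_std C hCs⟩

end std

variable {m : ℕ} {ι : Type*} [Fintype ι] [DecidableEq ι]

theorem quad_zero (C : Matrix ι ι F) (hsymm : Cᵀ = C) (hd : ∀ i, C i i = 0) (c : ι → F) :
    c ⬝ᵥ (C *ᵥ c) = 0 := by
  let f := Fintype.equivFin ι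
  let U : Matrix ι ι F := Matrix.of fun i j => if f i < f j then C i j else 0
  have hU : C = U + Uᵀ := by
    ext i j
    have hij : C j i = C i j := by rw [← Matrix.transpose_apply C i j, hsymm]
    simp only [Matrix.add_apply, Matrix.transpose_apply, U, Matrix.of_apply]
    rcases lt_trichotomy (f i) (f j) with h | h | h
    · rw [if_pos h, if_neg (not_lt.2 h.le), add_zero]
    · obtain rfl := f.injective h
      rw [if_neg (lt_irrefl _), hd, add_zero]
    · rw [if_neg (not_lt.2 h.le), if_pos h, zero_add, hij]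
  rw [hU, Matrix.add_mulVec, dotProduct_add, Matrix.dotProduct_mulVec c Uᵀ, Matrix.vecMul_transpose,
    dotProduct_comm (U *ᵥ c) c, CharTwo.add_self_eq_zero]

theorem alt_of_adapted {t : Matrix.symplecticGroup (Fin m) F} {C : Matrix ι ι F}
    (hC : IsUnit C.det) (hsymm : Cᵀ = C) (hd : ∀ i, C i i = 0) {v : ι → Fin m ⊕ Fin m → F}
    (ht : t * t = 1) (hv : Adapted t C v) (hr : rk t = Fintype.card ι) : Alt t := by
  intro x
  set c := C⁻¹ *ᵥ fun i => beta t (v i) x with hc
  have h1 : (fun i => beta t (v i) x) = C *ᵥ c := by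
    rw [hc, Matrix.mulVec_mulVec, Matrix.mul_nonsing_inv _ hC, Matrix.one_mulVec]
  rw [beta, N_eq hv.2 hC hr, B_sum_right, ← quad_zero C hsymm hd c, ← h1, dotProduct]
  refine Finset.sum_congr rfl fun l _ => ?_
  rw [B_smul_right, ← hc]
  exact congrArg _ (beta_comm ht x (v l))

theorem not_alt_of_adapted {t : Matrix.symplecticGroup (Fin m) F} {C : Matrix ι ι F}
    {v : ι → Fin m ⊕ Fin m → F} (hv : Adapted t C v) {i : ι} (hi : C i i ≠ 0) : ¬ Alt t :=
  fun h => hi (by rw [← hv.2 i i]; exact h _)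

theorem eq_one_of_rk {t : Matrix.symplecticGroup (Fin m) F} (h : rk t = 0) : t = 1 := by
  rw [rk_eq, Submodule.finrank_eq_zero, LinearMap.range_eq_bot] at h
  refine Subtype.ext (Matrix.toLin'.injective (LinearMap.ext fun x => ?_))
  show t.1 *ᵥ x = (1 : Matrix.symplecticGroup (Fin m) F).1 *ᵥ x
  rw [apply_eq, h, LinearMap.zero_apply, zero_add, SympGen.one_apply]

theorem rk_one : rk (1 : Matrix.symplecticGroup (Fin m) F) = 0 := by
  show ((1 : Matrix (Fin m ⊕ Fin m) (Fin m ⊕ Fin m) F) - 1).rank = 0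
  rw [sub_self, Matrix.rank_zero]

/-- The hyperbolic Gram matrix on `Fin (r + r)`. -/
def hypC (F : Type*) [Field F] (r : ℕ) : Matrix (Fin (r + r)) (Fin (r + r)) F :=
  (Matrix.J (Fin r) F).submatrix finSumFinEquiv.symm finSumFinEquiv.symm

theorem hypC_spec (r : ℕ) : IsUnit (hypC F r).det ∧ (hypC F r)ᵀ = hypC F r ∧ ∀ i, hypC F r i i = 0 := by
  refine ⟨?_, ?_, fun i => ?_⟩
  · rw [hypC, Matrix.det_submatrix_equiv_self]; exact Matrix.isUnit_det_J _ _
  · rw [hypC, Matrix.transpose_submatrix, Matrix.J_transpose]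
    ext i j
    exact CharTwo.neg_eq _
  · simp only [hypC, Matrix.submatrix_apply]
    rcases finSumFinEquiv.symm i with a | a <;> simp [Matrix.J]

theorem exists_type {s : ℕ} (hs : s ≤ m) (hs0 : 1 ≤ s) :
    (∃ t : Matrix.symplecticGroup (Fin m) F, t * t = 1 ∧ rk t = s ∧ ¬ Alt t) ∧
      (Even s → ∃ t : Matrix.symplecticGroup (Fin m) F, t * t = 1 ∧ rk t = s ∧ Alt t) := by
  refine ⟨?_, ?_⟩
  · obtain ⟨t, h1, h2, v, hv⟩ := exists_std (1 : Matrix (Fin s) (Fin s) F) Matrix.transpose_one hs (by simp)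
    exact ⟨t, h1, h2, not_alt_of_adapted hv (i := ⟨0, hs0⟩) (by simp)⟩
  · rintro ⟨r, rfl⟩
    obtain ⟨hu, hsy, hd⟩ := hypC_spec (F := F) r
    obtain ⟨t, h1, h2, v, hv⟩ := exists_std (hypC F r) hsy hs hu
    exact ⟨t, h1, h2, alt_of_adapted hu hsy hd h1 hv (by simpa using h2)⟩

end CfsgLib.SympInv
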