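/-
Centralisers of involutions in symplectic groups in characteristic two.
-/
import Cfsg.Agent.Lib.SympInvolution.Normal
import Mathlib.Data.Sym.Card
import Cfsg.Agent.S0245

set_option autoImplicit false
set_option linter.unusedSectionVars false
set_option linter.dupNamespace false

namespace CfsgLib.SympInv

open Matrix
open CfsgLib.SympGen (B bas B_map)
open CfsgLib.SympBlocks (e blk)

variable {F : Type*} [Field F] [CharP F 2]

/-- The isometries of a Gram matrix. -/
abbrev Orth {ι : Type*} [Fintype ι] (C : Matrix ι ι F) : Type _ := {A : Matrix ι ι F // Aᵀ * C * A = C}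

theorem card_orth_submatrix {ι κ : Type*} [Fintype ι] [Fintype κ] (C : Matrix ι ι F) (f : κ ≃ ι) :
    Nat.card (Orth (C.submatrix f f)) = Nat.card (Orth C) := by
  refine (Nat.card_congr (Equiv.subtypeEquiv (Matrix.reindex f.symm f.symm) fun A => ?_)).symm
  rw [Matrix.reindex_apply, Equiv.symm_symm, Matrix.transpose_submatrix, Matrix.submatrix_mul_equiv,
    Matrix.submatrix_mul_equiv]
  constructor
  · intro h; rw [h]
  · intro h
    have := congrArg (fun M => M.submatrix f.symm f.symm) h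
    simpa using this

theorem diag_congr_zero {ι κ : Type*} [Fintype ι] [DecidableEq ι] (C : Matrix ι ι F) (hs : Cᵀ = C)
    (hd : ∀ i, C i i = 0) (X : Matrix ι κ F) (j : κ) : (Xᵀ * C * X) j j = 0 := by
  rw [← quad_zero C hs hd fun i => X i j, Matrix.mul_assoc, Matrix.mul_apply]
  rfl

theorem J_symm (k : ℕ) : (Matrix.J (Fin k) F)ᵀ = Matrix.J (Fin k) F := by
  rw [Matrix.J_transpose]
  ext i j
  exact CharTwo.neg_eq _

theorem J_diag (k : ℕ) (i : Fin k ⊕ Fin k) : Matrix.J (Fin k) F i i = 0 := by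
  rcases i with a | a <;> simp [Matrix.J]

/-- Non-alternating form in odd dimension. -/
def oddC (F : Type*) [Field F] (k : ℕ) : Matrix ((Fin k ⊕ Fin k) ⊕ Fin 1) ((Fin k ⊕ Fin k) ⊕ Fin 1) F :=
  Matrix.fromBlocks (Matrix.J (Fin k) F) 0 0 1

/-- The two dimensional non-alternating form. -/
def twoC (F : Type*) [Field F] : Matrix (Fin 2) (Fin 2) F := !![1, 1; 1, 0]

/-- Non-alternating form in even dimension. -/
def evenC (F : Type*) [Field F] (k : ℕ) : Matrix ((Fin k ⊕ Fin k) ⊕ Fin 2) ((Fin k ⊕ Fin k) ⊕ Fin 2) F :=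
  Matrix.fromBlocks (Matrix.J (Fin k) F) 0 0 (twoC F)

theorem oddC_spec (k : ℕ) : IsUnit (oddC F k).det ∧ (oddC F k)ᵀ = oddC F k ∧
    oddC F k (Sum.inr 0) (Sum.inr 0) ≠ 0 := by
  refine ⟨?_, ?_, by simp [oddC]⟩
  · rw [oddC, Matrix.det_fromBlocks_zero₂₁]; simpa using Matrix.isUnit_det_J (Fin k) F
  · rw [oddC, Matrix.fromBlocks_transpose, J_symm]; simp

theorem evenC_spec (k : ℕ) : IsUnit (evenC F k).det ∧ (evenC F k)ᵀ = evenC F k ∧
    evenC F k (Sum.inr 0) (Sum.inr 0) ≠ 0 := by
  refine ⟨?_, ?_, by simp [evenC, twoC]⟩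
  · rw [evenC, Matrix.det_fromBlocks_zero₂₁]
    exact (Matrix.isUnit_det_J (Fin k) F).mul (by simp [twoC, Matrix.det_fin_two])
  · rw [evenC, Matrix.fromBlocks_transpose, J_symm]
    simp only [Matrix.transpose_zero]
    congr 1
    ext i j
    fin_cases i <;> fin_cases j <;> simp [twoC]

theorem symp_of_iff {k : ℕ} (X : Matrix (Fin k ⊕ Fin k) (Fin k ⊕ Fin k) F) :
    X ∈ Matrix.symplecticGroup (Fin k) F ↔ Xᵀ * Matrix.J (Fin k) F * X = Matrix.J (Fin k) F :=
  SymplecticGroup.mem_iff'

theorem card_orth_J (k : ℕ) :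
    Nat.card (Orth (Matrix.J (Fin k) F)) = Nat.card (Matrix.symplecticGroup (Fin k) F) :=
  Nat.card_congr (Equiv.subtypeEquivRight fun X => (symp_of_iff X).symm)

theorem mul_J_inj {k : ℕ} {κ : Type*} {X : Matrix (Fin k ⊕ Fin k) (Fin k ⊕ Fin k) F}
    (hX : X ∈ Matrix.symplecticGroup (Fin k) F) {y : Matrix (Fin k ⊕ Fin k) κ F}
    (h : Xᵀ * Matrix.J (Fin k) F * y = 0) : y = 0 := by
  have hu : IsUnit (Xᵀ * Matrix.J (Fin k) F).det := by
    rw [Matrix.det_mul, Matrix.det_transpose]
    exact (SymplecticGroup.symplectic_det hX).mul (Matrix.isUnit_det_J _ _)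
  rw [← Matrix.nonsing_inv_mul_cancel_left _ y hu, h, Matrix.mul_zero]

theorem card_orth_odd (k : ℕ) : Nat.card (Orth (oddC F k)) = Nat.card (Matrix.symplecticGroup (Fin k) F) := by
  refine (Nat.card_eq_of_bijective (fun X : Matrix.symplecticGroup (Fin k) F =>
    (⟨Matrix.fromBlocks X.1 0 0 1, by
      rw [oddC, Matrix.fromBlocks_transpose, Matrix.fromBlocks_multiply, Matrix.fromBlocks_multiply]
      simp [(symp_of_iff X.1).1 X.2]⟩ : Orth (oddC F k))) ⟨fun X Y h => ?_, fun A => ?_⟩).symm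
  · exact Subtype.ext (Matrix.fromBlocks_inj.1 (congrArg Subtype.val h)).1
  obtain ⟨A, hA⟩ := A
  obtain ⟨X, y, z, w, rfl⟩ : ∃ X y z w, A = Matrix.fromBlocks X y z w :=
    ⟨_, _, _, _, (Matrix.fromBlocks_toBlocks A).symm⟩
  rw [oddC, Matrix.fromBlocks_transpose, Matrix.fromBlocks_multiply, Matrix.fromBlocks_multiply] at hA
  simp only [Matrix.mul_zero, add_zero, zero_add, Matrix.mul_one] at hA
  obtain ⟨h11, h12, -, h22⟩ := Matrix.fromBlocks_inj.1 hA
  obtain rfl : z = 0 := by
    ext i j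
    have := congrFun (congrFun h11 j) j
    rw [Matrix.add_apply, diag_congr_zero _ (J_symm k) (J_diag k), J_diag, zero_add] at this
    fin_cases i
    simpa [Matrix.mul_apply] using this
  simp only [Matrix.transpose_zero, Matrix.zero_mul, add_zero] at h11 h12
  have hX := (symp_of_iff X).2 h11
  obtain rfl : y = 0 := mul_J_inj hX h12
  obtain rfl : w = 1 := by
    ext i j
    have := congrFun (congrFun h22 j) j
    fin_cases i
    fin_cases j
    simp [Matrix.mul_apply] at this
    simp only [Matrix.one_apply]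
    have h2 : (w 0 0 - 1) ^ 2 = 0 := by linear_combination this + (1 - w 0 0) * CharTwo.two_eq_zero (R := F)
    simpa [sub_eq_zero] using h2
  exact ⟨⟨X, hX⟩, rfl⟩

theorem card_orth_even (k : ℕ) : Nat.card (Orth (evenC F k)) =
    Nat.card (Matrix.symplecticGroup (Fin k) F) * (Nat.card F) ^ (2 * k + 1) := by
  set J := Matrix.J (Fin k) F
  have hcard : Nat.card (Matrix.symplecticGroup (Fin k) F × (Fin k ⊕ Fin k → F) × F) =
      Nat.card (Matrix.symplecticGroup (Fin k) F) * (Nat.card F) ^ (2 * k + 1) := by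
    rw [Nat.card_prod, Nat.card_prod, Nat.card_fun, pow_succ]
    simp [two_mul]
  rw [← hcard]
  let Y : (Fin k ⊕ Fin k → F) → Matrix (Fin k ⊕ Fin k) (Fin 2) F := fun y => Matrix.of fun i j => ![y i, 0] j
  let Z : Matrix (Fin k ⊕ Fin k) (Fin k ⊕ Fin k) F → (Fin k ⊕ Fin k → F) → Matrix (Fin 2) (Fin k ⊕ Fin k) F :=
    fun X y => Matrix.of fun j i => ![0, ((Xᵀ * J) *ᵥ y) i] j
  have key : ∀ X y c, Xᵀ * J * X = J → (Matrix.fromBlocks X (Y y) (Z X y) !![1, 0; c, 1])ᵀ * evenC F k *
      Matrix.fromBlocks X (Y y) (Z X y) !![1, 0; c, 1] = evenC F k := by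
    intro X y c hX
    rw [evenC, Matrix.fromBlocks_transpose, Matrix.fromBlocks_multiply, Matrix.fromBlocks_multiply]
    simp only [Matrix.mul_zero, add_zero, zero_add]
    have h1 : (Z X y)ᵀ * twoC F * Z X y = 0 := by
      ext i j; simp [Z, twoC, Matrix.mul_apply, Fin.sum_univ_two]
    have h2 : Xᵀ * J * Y y + (Z X y)ᵀ * twoC F * !![1, 0; c, 1] = 0 := by
      ext i j
      fin_cases j <;>
        simp [Z, Y, twoC, Matrix.mul_apply, Matrix.mulVec, dotProduct, Fin.sum_univ_two, CharTwo.add_self_eq_zero]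
    have h3 : (Y y)ᵀ * J * X + !![1, 0; c, 1]ᵀ * twoC F * Z X y = 0 := by
      have := congrArg Matrix.transpose h2
      have ht : (twoC F)ᵀ = twoC F := by ext i j; fin_cases i <;> fin_cases j <;> simp [twoC]
      simp only [Matrix.transpose_add, Matrix.transpose_mul, Matrix.transpose_transpose, Matrix.transpose_zero,
        J, J_symm, ht] at this
      simpa only [Matrix.mul_assoc] using this
    have h4 : (Y y)ᵀ * J * Y y + !![1, 0; c, 1]ᵀ * twoC F * !![1, 0; c, 1] = twoC F := by
      have hd : ((Y y)ᵀ * J * Y y) 0 0 = 0 := diag_congr_zero _ (J_symm k) (J_diag k) _ _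
      ext i j
      fin_cases i <;> fin_cases j <;>
        simp [hd, twoC, Matrix.mul_apply, Y, Fin.sum_univ_two, CharTwo.add_self_eq_zero, add_assoc]
    rw [hX, h1, add_zero, h2, h3, h4]
  refine (Nat.card_eq_of_bijective (fun p : Matrix.symplecticGroup (Fin k) F × (Fin k ⊕ Fin k → F) × F =>
    (⟨Matrix.fromBlocks p.1.1 (Y p.2.1) (Z p.1.1 p.2.1) !![1, 0; p.2.2, 1],
      key _ _ _ ((symp_of_iff _).1 p.1.2)⟩ : Orth (evenC F k))) ⟨fun p q h => ?_, fun A => ?_⟩).symm
  · obtain ⟨h1, h2, -, h4⟩ := Matrix.fromBlocks_inj.1 (congrArg Subtype.val h)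
    refine Prod.ext (Subtype.ext h1) (Prod.ext (funext fun i => ?_) ?_)
    · simpa [Y] using congrFun (congrFun h2 i) 0
    · simpa using congrFun (congrFun h4 1) 0
  obtain ⟨A, hA⟩ := A
  obtain ⟨X, y, z, w, rfl⟩ : ∃ X y z w, A = Matrix.fromBlocks X y z w :=
    ⟨_, _, _, _, (Matrix.fromBlocks_toBlocks A).symm⟩
  rw [evenC, Matrix.fromBlocks_transpose, Matrix.fromBlocks_multiply, Matrix.fromBlocks_multiply] at hA
  simp only [Matrix.mul_zero, add_zero, zero_add] at hA
  obtain ⟨h11, h12, -, h22⟩ := Matrix.fromBlocks_inj.1 hA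
  have hz0 : ∀ j, z 0 j = 0 := fun j => by
    have := congrFun (congrFun h11 j) j
    rw [Matrix.add_apply, diag_congr_zero _ (J_symm k) (J_diag k), J_diag, zero_add] at this
    simp [Matrix.mul_apply, Fin.sum_univ_two, twoC] at this
    have h2 : z 0 j ^ 2 = 0 := by linear_combination this - (z 0 j * z 1 j) * CharTwo.two_eq_zero (R := F)
    simpa using h2
  have hzz : zᵀ * twoC F * z = 0 := by
    ext i j; simp [twoC, Matrix.mul_apply, Fin.sum_univ_two, hz0]
  rw [hzz, add_zero] at h11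
  have hX := (symp_of_iff X).2 h11
  have hd : ∀ j, (yᵀ * J * y) j j = 0 := fun j => diag_congr_zero _ (J_symm k) (J_diag k) _ _
  have e00 := congrFun (congrFun h22 0) 0
  have e11 := congrFun (congrFun h22 1) 1
  rw [Matrix.add_apply, hd] at e00 e11
  simp [twoC, Matrix.mul_apply, Fin.sum_univ_two] at e00 e11
  have hw00 : w 0 0 = 1 := by
    have h2 : (w 0 0 - 1) ^ 2 = 0 := by
      linear_combination e00 + (1 - w 0 0 - w 0 0 * w 1 0) * CharTwo.two_eq_zero (R := F)
    simpa [sub_eq_zero] using h2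
  have hw01 : w 0 1 = 0 := by
    have h2 : w 0 1 ^ 2 = 0 := by linear_combination e11 - (w 0 1 * w 1 1) * CharTwo.two_eq_zero (R := F)
    simpa using h2
  have hy1 : ∀ i, y i 1 = 0 := by
    have h0 : Xᵀ * J * Matrix.of (fun i (_ : Fin 1) => y i 1) = 0 := by
      ext i j
      have := congrFun (congrFun h12 i) 1
      simp [Matrix.mul_apply, Fin.sum_univ_two, twoC, hz0, hw01] at this ⊢
      exact this
    intro i
    simpa using congrFun (congrFun (mul_J_inj hX h0) i) (0 : Fin 1)
  have hw11 : w 1 1 = 1 := by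
    have := congrFun (congrFun h22 0) 1
    simp [Matrix.mul_apply, Fin.sum_univ_two, twoC, hw01, hw00, hy1] at this
    exact this
  have hz1 : ∀ i, z 1 i = ((Xᵀ * J) *ᵥ fun a => y a 0) i := fun i => by
    have := congrFun (congrFun h12 i) 0
    have e2 : (zᵀ * twoC F * w) i 0 = z 1 i := by
      simp [Matrix.mul_apply, Fin.sum_univ_two, twoC, hz0, hw00]
    rw [Matrix.add_apply, e2, Matrix.zero_apply] at this
    rw [eq_comm, ← sub_eq_zero, CharTwo.sub_eq_add]
    exact this
  refine ⟨(⟨X, hX⟩, fun i => y i 0, w 1 0), Subtype.ext (Matrix.fromBlocks_inj.2 ⟨rfl, ?_, ?_, ?_⟩)⟩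
  · ext i j; fin_cases j <;> simp [Y, hy1]
  · ext i j; fin_cases i <;> simp [Z, hz0, hz1]
  · ext i j; fin_cases i <;> fin_cases j <;> simp [hw00, hw01, hw11]

/-! ### Tuples of a standard involution -/

section std

variable {s b : ℕ} {C : Matrix (Fin s) (Fin s) F} (hCs : Cᵀ = C)

theorem e_symm_ll (i : Fin s) : (e s b).symm (Sum.inl (Sum.inl i)) = Sum.inl (Fin.castAdd b i) := by
  simp [e, Equiv.sumSumSumComm]

theorem e_symm_lr (i : Fin s) : (e s b).symm (Sum.inl (Sum.inr i)) = Sum.inr (Fin.castAdd b i) := by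
  simp [e, Equiv.sumSumSumComm]

theorem e_symm_rl (i : Fin b) : (e s b).symm (Sum.inr (Sum.inl i)) = Sum.inl (Fin.natAdd s i) := by
  simp [e, Equiv.sumSumSumComm]

theorem e_symm_rr (i : Fin b) : (e s b).symm (Sum.inr (Sum.inr i)) = Sum.inr (Fin.natAdd s i) := by
  simp [e, Equiv.sumSumSumComm]

theorem B_formula {n : ℕ} (x y : Fin n ⊕ Fin n → F) :
    B x y = ∑ i, (x (Sum.inr i) * y (Sum.inl i) + x (Sum.inl i) * y (Sum.inr i)) := by
  simp only [B, Matrix.J, Matrix.fromBlocks_mulVec, dotProduct, Fintype.sum_sum_type, Sum.elim_inl, Sum.elim_inr,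
    Matrix.zero_mulVec, zero_add, add_zero, Matrix.neg_mulVec, Matrix.one_mulVec, Pi.neg_apply,
    Function.comp_apply, CharTwo.neg_eq, Finset.sum_add_distrib]
  exact add_comm _ _

/-- A tuple in split coordinates. -/
def split (v : Fin s → Fin (s + b) ⊕ Fin (s + b) → F) :
    Matrix (Fin s) (Fin s) F × Matrix (Fin s) (Fin s) F × (Fin s → Fin b ⊕ Fin b → F) :=
  (Matrix.of fun i j => v j (Sum.inr (Fin.castAdd b i)), Matrix.of fun i j => v j (Sum.inl (Fin.castAdd b i)),
    fun j => Sum.elim (fun i => v j (Sum.inl (Fin.natAdd s i))) fun i => v j (Sum.inr (Fin.natAdd s i)))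

theorem split_bijective : Function.Bijective (split (F := F) (s := s) (b := b)) := by
  constructor
  · intro v v' h
    funext j r
    rcases r with r | r <;> induction r using Fin.addCases with
    | left i =>
      first
        | exact congrFun (congrFun (congrArg (fun p => p.2.1) h) i) j
        | exact congrFun (congrFun (congrArg (fun p => p.1) h) i) j
    | right i =>
      first
        | exact congrFun (congrFun (congrArg (fun p => p.2.2) h) j) (Sum.inl i)
        | exact congrFun (congrFun (congrArg (fun p => p.2.2) h) j) (Sum.inr i)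
  · rintro ⟨A, M, Z⟩
    refine ⟨fun j => Sum.elim (Fin.addCases (fun i => M i j) fun i => Z j (Sum.inl i))
      (Fin.addCases (fun i => A i j) fun i => Z j (Sum.inr i)), ?_⟩
    refine Prod.ext ?_ (Prod.ext ?_ ?_)
    · ext i j; simp [split]
    · ext i j; simp [split]
    · funext j r; rcases r with r | r <;> simp [split]

theorem N_std_coord (x : Fin (s + b) ⊕ Fin (s + b) → F) :
    (∀ i, N (std C hCs b) x (Sum.inl (Fin.castAdd b i)) = ∑ l, C i l * x (Sum.inr (Fin.castAdd b l))) ∧
    (∀ i, N (std C hCs b) x (Sum.inr (Fin.castAdd b i)) = 0) ∧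
    (∀ i, N (std C hCs b) x (Sum.inl (Fin.natAdd s i)) = 0) ∧
    (∀ i, N (std C hCs b) x (Sum.inr (Fin.natAdd s i)) = 0) := by
  refine ⟨fun i => ?_, fun i => ?_, fun i => ?_, fun i => ?_⟩
  · rw [← e_symm_ll, N_std]; simp [Matrix.mulVec, dotProduct, e_symm_lr]
  · rw [← e_symm_lr, N_std]; simp
  · rw [← e_symm_rl, N_std]; simp
  · rw [← e_symm_rr, N_std]; simp

/-- The Gram matrix of the second components. -/
def restGram (Z : Fin s → Fin b ⊕ Fin b → F) : Matrix (Fin s) (Fin s) F := Matrix.of fun i j => B (Z i) (Z j)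

theorem adapted_iff (v : Fin s → Fin (s + b) ⊕ Fin (s + b) → F) :
    Adapted (std C hCs b) C v ↔ (split v).1ᵀ * C * (split v).1 = C ∧
      (split v).1ᵀ * (split v).2.1 + ((split v).1ᵀ * (split v).2.1)ᵀ + restGram (split v).2.2 = 0 := by
  have h1 : ∀ i j, beta (std C hCs b) (v i) (v j) = ((split v).1ᵀ * C * (split v).1) i j := by
    intro i j
    obtain ⟨n1, n2, n3, n4⟩ := N_std_coord hCs (b := b) (v j)
    rw [beta, B_formula, Fin.sum_univ_add, Matrix.mul_assoc]
    simp [n1, n2, n3, n4, split, Matrix.mul_apply]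
  have h2 : ∀ i j, B (v i) (v j) = ((split v).1ᵀ * (split v).2.1 + ((split v).1ᵀ * (split v).2.1)ᵀ +
      restGram (split v).2.2) i j := by
    intro i j
    rw [B_formula, Fin.sum_univ_add]
    simp only [Matrix.add_apply, Matrix.transpose_apply, Matrix.mul_apply, restGram, Matrix.of_apply, B_formula]
    simp only [split, Matrix.of_apply, Sum.elim_inl, Sum.elim_inr, Finset.sum_add_distrib, mul_comm (v j _)]
  constructor
  · rintro ⟨hB, hG⟩
    exact ⟨Matrix.ext fun i j => (h1 i j).symm.trans (hG i j), Matrix.ext fun i j => (h2 i j).symm.trans (hB i j)⟩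
  · rintro ⟨hG, hB⟩
    exact ⟨fun i j => by rw [h2, hB]; rfl, fun i j => by rw [h1, hG]⟩

variable [Finite F]

theorem card_adapted (hC : IsUnit C.det) :
    Nat.card {v // Adapted (std C hCs b) C v} =
      Nat.card (Orth C) * (Nat.card F) ^ (2 * b * s) * (Nat.card F) ^ ((s + 1).choose 2) := by
  have hA : ∀ A : Orth C, IsUnit (A.1ᵀ).det := fun A => by
    have h := congrArg Matrix.det A.2
    rw [Matrix.det_mul, Matrix.det_mul] at h
    exact isUnit_of_mul_isUnit_left (isUnit_of_mul_isUnit_left (h ▸ hC))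
  let U : (Fin s → Fin b ⊕ Fin b → F) → Matrix (Fin s) (Fin s) F := fun Z =>
    Matrix.of fun i j => if i < j then B (Z i) (Z j) else 0
  have hU : ∀ Z, U Z + (U Z)ᵀ = restGram Z := fun Z => by
    ext i j
    simp only [Matrix.add_apply, Matrix.transpose_apply, U, Matrix.of_apply, restGram]
    rcases lt_trichotomy i j with h | h | h
    · rw [if_pos h, if_neg (not_lt.2 h.le), add_zero]
    · subst h
      rw [if_neg (lt_irrefl _), SympGen.B_self, add_zero]
    · rw [if_neg (not_lt.2 h.le), if_pos h, zero_add, B_comm]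
  have hsym : Nat.card {S : Matrix (Fin s) (Fin s) F // Sᵀ = S} = (Nat.card F) ^ ((s + 1).choose 2) := by
    rw [show Nat.card F ^ ((s + 1).choose 2) = Nat.card (Sym2 (Fin s) → F) by
      rw [Nat.card_fun, Nat.card_eq_fintype_card (α := Sym2 (Fin s)), Sym2.card, Fintype.card_fin]]
    refine (Nat.card_eq_of_bijective (fun f : Sym2 (Fin s) → F =>
      (⟨Matrix.of fun i j => f s(i, j), Matrix.ext fun i j => congrArg f Sym2.eq_swap⟩ :
        {S : Matrix (Fin s) (Fin s) F // Sᵀ = S})) ⟨fun f f' h => funext fun p => ?_, fun S => ?_⟩).symm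
    · induction p using Sym2.ind with
      | h i j => exact congrFun (congrFun (congrArg Subtype.val h) i) j
    · refine ⟨Sym2.lift ⟨fun i j => S.1 i j, fun i j => ?_⟩, Subtype.ext (Matrix.ext fun i j => rfl)⟩
      exact (congrFun (congrFun S.2 i) j).symm
  have hZ : Nat.card (Fin s → Fin b ⊕ Fin b → F) = (Nat.card F) ^ (2 * b * s) := by
    rw [Nat.card_fun, Nat.card_fun, ← pow_mul]
    simp [two_mul]
  rw [← hsym, ← hZ, ← Nat.card_prod, ← Nat.card_prod]
  let T := {p : Matrix (Fin s) (Fin s) F × Matrix (Fin s) (Fin s) F × (Fin s → Fin b ⊕ Fin b → F) //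
    p.1ᵀ * C * p.1 = C ∧ p.1ᵀ * p.2.1 + (p.1ᵀ * p.2.1)ᵀ + restGram p.2.2 = 0}
  rw [Nat.card_congr (Equiv.subtypeEquiv (Equiv.ofBijective split split_bijective) (q := fun p =>
    p.1ᵀ * C * p.1 = C ∧ p.1ᵀ * p.2.1 + (p.1ᵀ * p.2.1)ᵀ + restGram p.2.2 = 0) (adapted_iff hCs))]
  refine Nat.card_congr
    { toFun := fun p : T => ((⟨p.1.1, p.2.1⟩, p.1.2.2), ⟨p.1.1ᵀ * p.1.2.1 + U p.1.2.2, ?_⟩)
      invFun := fun q => ⟨(q.1.1.1, (q.1.1.1ᵀ)⁻¹ * (q.2.1 + U q.1.2), q.1.2), q.1.1.2, ?_⟩
      left_inv := fun p => ?_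
      right_inv := fun q => ?_ }
  · ext i j
    have h0 := congrFun (congrFun p.2.2 i) j
    simp only [Matrix.add_apply, Matrix.transpose_apply, ← hU, Matrix.zero_apply] at h0 ⊢
    rw [← sub_eq_zero, CharTwo.sub_eq_add]
    linear_combination h0
  · rw [Matrix.mul_nonsing_inv_cancel_left _ _ (hA q.1.1), Matrix.transpose_add, q.2.2, ← hU]
    ext i j
    simp only [Matrix.add_apply, Matrix.zero_apply]
    linear_combination CharTwo.add_self_eq_zero (q.2.1 i j) + CharTwo.add_self_eq_zero (U q.1.2 i j) +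
      CharTwo.add_self_eq_zero ((U q.1.2)ᵀ i j)
  · refine Subtype.ext (Prod.ext rfl (Prod.ext ?_ rfl))
    show (p.1.1ᵀ)⁻¹ * (p.1.1ᵀ * p.1.2.1 + U p.1.2.2 + U p.1.2.2) = p.1.2.1
    have hz : U p.1.2.2 + U p.1.2.2 = 0 := Matrix.ext fun i j => CharTwo.add_self_eq_zero _
    rw [add_assoc, hz, add_zero, Matrix.nonsing_inv_mul_cancel_left _ _ (hA ⟨p.1.1, p.2.1⟩)]
  · refine Prod.ext rfl (Subtype.ext ?_)
    show q.1.1.1ᵀ * ((q.1.1.1ᵀ)⁻¹ * (q.2.1 + U q.1.2)) + U q.1.2 = q.2.1
    have hz : U q.1.2 + U q.1.2 = 0 := Matrix.ext fun i j => CharTwo.add_self_eq_zero _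
    rw [Matrix.mul_nonsing_inv_cancel_left _ _ (hA q.1.1), add_assoc, hz, add_zero]

theorem card_centralizer_std (hC : IsUnit C.det) :
    Nat.card (Subgroup.centralizer ({std C hCs b} : Set (Matrix.symplecticGroup (Fin (s + b)) F))) =
      Nat.card {v // Adapted (std C hCs b) C v} * Nat.card (Matrix.symplecticGroup (Fin b) F) := by
  set t := std C hCs b
  have ht : t * t = 1 := std_sq C hCs
  have hrk : rk t = Fintype.card (Fin s) := by rw [Fintype.card_fin]; exact rk_std C hCs hC
  have hsur : ∀ v : {v // Adapted t C v}, ∃ g, g * t * g⁻¹ = t ∧ ∀ i, g.1 *ᵥ tup F s b i = v.1 i := fun v =>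
    conj_of_adapted ht ht hC (adapted_std C hCs) v.2 hrk hrk
  choose g hg hgv using hsur
  have hfix : ∀ (D : Matrix.symplecticGroup (Fin b) F) (p : Fin s ⊕ Fin s),
      (SympBlocks.Φ s b (1, D)).1 *ᵥ bas ((e s b).symm (Sum.inl p)) = bas ((e s b).symm (Sum.inl p)) := by
    intro D p
    funext r
    obtain ⟨r, rfl⟩ := (e s b).symm.surjective r
    have h := congrFun (congrFun (SympBlocks.blk_Φ ((1 : Matrix.symplecticGroup (Fin s) F), D)) r) (Sum.inl p)
    simp only [blk, Matrix.submatrix_apply] at h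
    rw [Matrix.mulVec_single_one, Matrix.col_apply, h]
    rcases r with r | r <;> simp [Matrix.one_apply, bas, Pi.single_apply]
  have hcomm : ∀ D, SympBlocks.Φ s b ((1 : Matrix.symplecticGroup (Fin s) F), D) * t =
      t * SympBlocks.Φ s b ((1 : Matrix.symplecticGroup (Fin s) F), D) := fun D => by
    show _ * SympBlocks.Φ s b (uni C hCs, 1) = SympBlocks.Φ s b (uni C hCs, 1) * _
    rw [← map_mul, ← map_mul]
    simp
  let f : {v // Adapted t C v} × Matrix.symplecticGroup (Fin b) F →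
      Subgroup.centralizer ({t} : Set (Matrix.symplecticGroup (Fin (s + b)) F)) := fun p =>
    ⟨g p.1 * SympBlocks.Φ s b (1, p.2), Subgroup.mem_centralizer_singleton_iff.2 (by
      rw [mul_assoc, hcomm, ← mul_assoc, ← mul_assoc, mul_inv_eq_iff_eq_mul.1 (hg p.1)])⟩
  rw [← Nat.card_prod]
  refine (Nat.card_eq_of_bijective f ⟨?_, ?_⟩).symm
  · rintro ⟨v, D⟩ ⟨v', D'⟩ h
    have h' : g v * SympBlocks.Φ s b (1, D) = g v' * SympBlocks.Φ s b (1, D') := congrArg Subtype.val h
    have hv : v = v' := Subtype.ext (funext fun i => by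
      rw [← hgv v i, ← hgv v' i]
      conv_lhs => rw [tup, ← hfix D, ← SympGen.mul_apply, h', SympGen.mul_apply, hfix]
      rfl)
    subst hv
    have hD := congrArg Prod.snd (SympBlocks.Φ_injective (mul_left_cancel h'))
    exact Prod.ext rfl hD
  · rintro ⟨x, hx⟩
    have hxt : x * t = t * x := Subgroup.mem_centralizer_singleton_iff.1 hx
    have hN : ∀ y, N t (x.1 *ᵥ y) = x.1 *ᵥ N t y := fun y => by
      rw [N_apply, N_apply, ← SympGen.mul_apply, ← hxt, SympGen.mul_apply, Matrix.mulVec_add]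
    obtain ⟨hB, hG⟩ := adapted_std C hCs (b := b)
    let v : {v // Adapted t C v} := ⟨fun i => x.1 *ᵥ tup F s b i, fun i j => by rw [B_map]; exact hB i j,
      fun i j => by rw [beta, hN, B_map]; exact hG i j⟩
    set y := (g v)⁻¹ * x with hy
    have hyt : y * t = t * y := by
      have := mul_inv_eq_iff_eq_mul.1 (hg v)
      rw [hy, mul_assoc, hxt, ← mul_assoc, ← mul_assoc]
      congr 1
      rw [inv_mul_eq_iff_eq_mul, ← mul_assoc, this, mul_inv_cancel_right]
    have hy1 : ∀ i, y.1 *ᵥ tup F s b i = tup F s b i := fun i => by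
      rw [hy, SympGen.mul_apply, show x.1 *ᵥ tup F s b i = (g v).1 *ᵥ tup F s b i from (hgv v i).symm,
        ← SympGen.mul_apply, inv_mul_cancel, SympGen.one_apply]
    have hy2 : ∀ i, y.1 *ᵥ bas ((e s b).symm (Sum.inl (Sum.inl i))) = bas ((e s b).symm (Sum.inl (Sum.inl i))) := by
      intro i
      have hexp : bas ((e s b).symm (Sum.inl (Sum.inl i))) = ∑ j, C⁻¹ j i • N t (tup F s b j) := by
        simp only [t, N_tup, Finset.smul_sum, smul_smul]
        rw [Finset.sum_comm]
        simp only [← Finset.sum_smul]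
        rw [Finset.sum_eq_single i]
        · have := congrFun (congrFun (Matrix.mul_nonsing_inv C hC) i) i
          rw [Matrix.mul_apply] at this
          simp only [mul_comm (C⁻¹ _ _)]
          rw [this, Matrix.one_apply_eq, one_smul]
        · intro l _ hl
          have := congrFun (congrFun (Matrix.mul_nonsing_inv C hC) l) i
          rw [Matrix.mul_apply] at this
          simp only [mul_comm (C⁻¹ _ _)]
          rw [this, Matrix.one_apply_ne hl, zero_smul]
        · simp
      have hNy : ∀ z, N t (y.1 *ᵥ z) = y.1 *ᵥ N t z := fun z => by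
        rw [N_apply, N_apply, ← SympGen.mul_apply, ← hyt, SympGen.mul_apply, Matrix.mulVec_add]
      rw [hexp, Matrix.mulVec_sum]
      refine Finset.sum_congr rfl fun j _ => ?_
      rw [Matrix.mulVec_smul, ← hNy, hy1]
    have hcol : ∀ (r : (Fin s ⊕ Fin s) ⊕ (Fin b ⊕ Fin b)) (p : Fin s ⊕ Fin s),
        blk y.1 r (Sum.inl p) = if r = Sum.inl p then 1 else 0 := by
      intro r p
      have h : y.1 *ᵥ bas ((e s b).symm (Sum.inl p)) = bas ((e s b).symm (Sum.inl p)) := by
        rcases p with p | p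
        · exact hy2 p
        · exact hy1 p
      have := congrFun h ((e s b).symm r)
      rw [Matrix.mulVec_single_one, Matrix.col_apply] at this
      rw [blk, Matrix.submatrix_apply, this, bas, Pi.single_apply]
      simp
    obtain ⟨⟨A, D⟩, hp, hA, -⟩ := SympBlocks.mem_range y (Or.inl (by
      ext i j; simp [Matrix.toBlocks₂₁, hcol]))
    obtain rfl : A = 1 := by
      apply Subtype.ext
      show A.1 = 1
      rw [hA]
      ext i j
      simp [Matrix.toBlocks₁₁, hcol, Matrix.one_apply]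
    refine ⟨(v, D), Subtype.ext ?_⟩
    show g v * SympBlocks.Φ s b (1, D) = x
    rw [hp, hy, mul_inv_cancel_left]

end std

theorem card_centralizer_conj {G : Type*} [Group G] {t t' : G} (h : IsConj t t') :
    Nat.card (Subgroup.centralizer ({t} : Set G)) = Nat.card (Subgroup.centralizer ({t'} : Set G)) := by
  obtain ⟨g, rfl⟩ := _root_.isConj_iff.1 h
  refine Nat.card_congr (Equiv.subtypeEquiv (MulAut.conj g).toEquiv fun x => ?_)
  simp only [Subgroup.mem_centralizer_singleton_iff, MulEquiv.toEquiv_eq_coe, MulEquiv.coe_toEquiv,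
    MulAut.conj_apply]
  constructor
  · intro hh
    calc g * x * g⁻¹ * (g * t * g⁻¹) = g * (x * t) * g⁻¹ := by group
      _ = g * (t * x) * g⁻¹ := by rw [hh]
      _ = _ := by group
  · intro hh
    have : g * (x * t) * g⁻¹ = g * (t * x) * g⁻¹ := by
      calc g * (x * t) * g⁻¹ = g * x * g⁻¹ * (g * t * g⁻¹) := by group
        _ = g * t * g⁻¹ * (g * x * g⁻¹) := hh
        _ = _ := by group
    exact mul_left_cancel (mul_right_cancel this)

/-- The centraliser order of an involution from a Gram matrix of the same type. -/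
theorem card_centralizer {m : ℕ} [Finite F] {t : Matrix.symplecticGroup (Fin m) F} (ht : t * t = 1)
    {ι : Type*} [Fintype ι] [DecidableEq ι] (C : Matrix ι ι F) (hC : IsUnit C.det) (hs : Cᵀ = C)
    (hr : rk t = Fintype.card ι) (htype : Alt t ↔ ∀ i, C i i = 0) :
    Nat.card (Subgroup.centralizer ({t} : Set (Matrix.symplecticGroup (Fin m) F))) =
      Nat.card (Orth C) * (Nat.card F) ^ (2 * (m - rk t) * rk t) * (Nat.card F) ^ ((rk t + 1).choose 2) *
        Nat.card (Matrix.symplecticGroup (Fin (m - rk t)) F) := by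
  obtain ⟨b, hb⟩ : ∃ b, m = rk t + b := by
    by_cases h : Alt t
    · obtain ⟨r, hr', v, hv⟩ := rk_alt ht h
      have := card_le_m ht (Matrix.isUnit_det_J _ _) hv
      simp only [Fintype.card_sum, Fintype.card_fin] at this
      exact Nat.exists_eq_add_of_le (by omega)
    · obtain ⟨v, hv⟩ := adapted_one ht h
      have := card_le_m ht (by simp) hv
      simp only [Fintype.card_fin] at this
      exact Nat.exists_eq_add_of_le this
  generalize hsdef : rk t = s at hb hr ⊢
  subst hb
  let f : Fin s ≃ ι := (finCongr hr).trans (Fintype.equivFin ι).symm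
  have hC' : IsUnit (C.submatrix f f).det := by rw [Matrix.det_submatrix_equiv_self]; exact hC
  have hs' : (C.submatrix f f)ᵀ = C.submatrix f f := by rw [Matrix.transpose_submatrix, hs]
  have hconj : IsConj t (std (C.submatrix f f) hs' b) := by
    refine (isConj_iff ht (std_sq _ hs')).2 ⟨by rw [hsdef, rk_std _ hs' hC'], ?_⟩
    rw [htype]
    constructor
    · exact fun h => alt_of_adapted hC' hs' (fun i => h (f i)) (std_sq _ hs') (adapted_std _ hs')
        (by rw [Fintype.card_fin]; exact rk_std _ hs' hC')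
    · intro h i
      by_contra hi
      exact not_alt_of_adapted (adapted_std _ hs' (b := b)) (i := f.symm i) (by simpa using hi) h
  rw [card_centralizer_conj hconj, card_centralizer_std hs' hC', card_adapted hs' hC', card_orth_submatrix,
    Nat.add_sub_cancel_left]

end CfsgLib.SympInv

namespace CfsgLib.SympInv

open Matrix

variable {F : Type*} [Field F] [CharP F 2]

theorem rk_le {m : ℕ} [Finite F] {t : Matrix.symplecticGroup (Fin m) F} (ht : t * t = 1) : rk t ≤ m := by
  by_cases h : Alt t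
  · obtain ⟨r, hr', v, hv⟩ := rk_alt ht h
    have := card_le_m ht (Matrix.isUnit_det_J _ _) hv
    simp only [Fintype.card_sum, Fintype.card_fin] at this
    omega
  · obtain ⟨v, hv⟩ := adapted_one ht h
    simpa using card_le_m ht (by simp) hv

theorem exp_choose (b s : ℕ) : 2 * b * s + (s + 1).choose 2 = 2 * (s + b) * s - (3 * s ^ 2 - s) / 2 := by
  obtain ⟨u, hu⟩ := Nat.even_mul_succ_self s
  have h1 : (s + 1).choose 2 = u := by
    rw [Nat.choose_two_right, Nat.add_sub_cancel, Nat.mul_comm, hu]; omega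
  have h2 : s * (s + 1) = s ^ 2 + s := by ring
  have h3 : 2 * (s + b) * s = 2 * b * s + 2 * s ^ 2 := by ring
  have h4 : s ≤ s ^ 2 := Nat.le_self_pow (by norm_num) s
  omega

theorem exp_choose_even (b s : ℕ) (hs : 2 ≤ s) :
    s - 1 + (2 * b * s + (s + 1).choose 2) = 2 * (s + b) * s - (3 * s ^ 2 - 3 * s) / 2 - 1 := by
  obtain ⟨u, hu⟩ := Nat.even_mul_succ_self s
  have h1 : (s + 1).choose 2 = u := by
    rw [Nat.choose_two_right, Nat.add_sub_cancel, Nat.mul_comm, hu]; omega
  have h2 : s * (s + 1) = s ^ 2 + s := by ring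
  have h3 : 2 * (s + b) * s = 2 * b * s + 2 * s ^ 2 := by ring
  have h4 : s ≤ s ^ 2 := Nat.le_self_pow (by norm_num) s
  omega

end CfsgLib.SympInv
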