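/-
Orthogonal groups in characteristic two inside the symplectic group of the polar form.
-/
import Cfsg.Agent.Lib.SympInvolution.Cent
import Cfsg.Agent.Lib.OmegaList

set_option autoImplicit false
set_option linter.unusedSectionVars false
set_option linter.dupNamespace false

namespace CfsgLib.SympOrth

open Matrix QuadraticMap Module
open CfsgLib.SympGen (B B_map B_add_left B_add_right B_smul_left B_smul_right B_self tv_apply conj_tv)
open CfsgLib.SympInv (N N_apply apply_eq rk Alt beta B_comm eq_zero_of_B)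
open CfsgLib.SympTransvection (tv)

/-- The Artin–Schreier image. -/
def P2 {F : Type*} [Field F] (c : F) : Prop := ∃ y : F, y ^ 2 + y = c

section P2

variable {F : Type*} [Field F] [CharP F 2]

/-- The Artin–Schreier map. -/
def asHom : F →+ F where
  toFun y := y ^ 2 + y
  map_zero' := by simp
  map_add' y z := by rw [CharTwo.add_sq]; ring

theorem P2_iff (c : F) : P2 c ↔ c ∈ (asHom (F := F)).range := Iff.rfl

theorem P2_zero : P2 (0 : F) := ⟨0, by simp⟩

theorem P2_add {a b : F} (ha : P2 a) (hb : P2 b) : P2 (a + b) := by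
  rw [P2_iff] at *; exact add_mem ha hb

variable [Finite F]

theorem range_index : (asHom (F := F)).range.index = 2 := by
  have hker : Nat.card (asHom (F := F)).ker = 2 := by
    have h : ((asHom (F := F)).ker : Set F) = {0, 1} := by
      ext y
      simp only [SetLike.mem_coe, AddMonoidHom.mem_ker, Set.mem_insert_iff, Set.mem_singleton_iff]
      show y ^ 2 + y = 0 ↔ _
      rw [show y ^ 2 + y = y * (y + 1) by ring, mul_eq_zero, CharTwo.add_eq_zero]
    rw [← SetLike.coe_sort_coe, h, Nat.card_coe_set_eq, Set.ncard_pair zero_ne_one]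
  have hiso : Nat.card (F ⧸ (asHom (F := F)).ker) = Nat.card (asHom (F := F)).range :=
    Nat.card_congr (QuotientAddGroup.quotientKerEquivRange _).toEquiv
  have h1 := AddSubgroup.card_eq_card_quotient_mul_card_addSubgroup (asHom (F := F)).ker
  rw [hker, hiso] at h1
  have h2 := AddSubgroup.card_mul_index (asHom (F := F)).range
  rw [h1] at h2
  exact Nat.eq_of_mul_eq_mul_left Nat.card_pos h2

theorem exists_not_P2 : ∃ e : F, ¬ P2 e := by
  by_contra h
  push Not at h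
  have : (asHom (F := F)).range = ⊤ := eq_top_iff.2 fun x _ => h x
  have h2 := range_index (F := F)
  rw [this, AddSubgroup.index_top] at h2
  exact absurd h2 (by norm_num)

theorem P2_add_iff {a b : F} : P2 (a + b) ↔ (P2 a ↔ P2 b) :=
  AddSubgroup.add_mem_iff_of_index_two (range_index (F := F))

end P2

variable {F : Type*} [Field F] [CharP F 2] {m : ℕ}

local notation "Vec" => (Fin m ⊕ Fin m → F)
local notation "Sp" => Matrix.symplecticGroup (Fin m) F

/-- The form polarises to the symplectic form. -/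
def Polar (Q : QuadraticForm F (Fin m ⊕ Fin m → F)) : Prop := ∀ x y, polar (⇑Q) x y = B x y

variable {Q : QuadraticForm F (Fin m ⊕ Fin m → F)} (hQ : Polar Q)

theorem Q_smul (Q : QuadraticForm F (Fin m ⊕ Fin m → F)) (c : F) (x : Vec) : Q (c • x) = c ^ 2 * Q x := by
  rw [QuadraticMap.map_smul, smul_eq_mul, pow_two]

theorem mem_symp (A : Matrix (Fin m ⊕ Fin m) (Fin m ⊕ Fin m) F)
    (h : ∀ x y : Vec, B (A *ᵥ x) (A *ᵥ y) = B x y) : A ∈ Sp := by
  refine SymplecticGroup.mem_iff'.2 (Matrix.ext fun i j => ?_)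
  have key : ∀ x y : Vec, x ⬝ᵥ (Aᵀ * Matrix.J (Fin m) F * A) *ᵥ y = x ⬝ᵥ Matrix.J (Fin m) F *ᵥ y := by
    intro x y
    refine Eq.trans ?_ (h x y)
    show _ = A *ᵥ x ⬝ᵥ Matrix.J (Fin m) F *ᵥ (A *ᵥ y)
    rw [Matrix.mul_assoc, ← Matrix.mulVec_mulVec, dotProduct_mulVec x Aᵀ, Matrix.vecMul_transpose,
      Matrix.mulVec_mulVec]
  simpa [single_dotProduct, Matrix.mulVec_single_one] using key (Pi.single i 1) (Pi.single j 1)

include hQ

theorem Q_add (x y : Vec) : Q (x + y) = Q x + Q y + B x y := by rw [QuadraticMap.map_add Q, hQ]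

theorem nondeg : (polarBilin Q).Nondegenerate := by
  have h : ∀ x : Vec, (∀ y, B x y = 0) → x = 0 := fun x hx =>
    eq_zero_of_B fun z => by rw [B_comm]; exact hx z
  exact ⟨fun x hx => h x fun y => (hQ x y).symm.trans (hx y),
    fun y hy => h y fun x => by rw [← hQ, polar_comm]; exact hy x⟩

/-- The inclusion in the symplectic group. -/
def toSp : Cfsg.isometryGroup F ⇑Q →* Sp where
  toFun g := ⟨g.1.1, mem_symp _ fun x y => by
    rw [← hQ, ← hQ]
    simp only [polar]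
    rw [← Matrix.mulVec_add]
    exact congr_arg₂ (· - ·) (congr_arg₂ (· - ·) (g.2 _ x) (g.2 x x)) (g.2 y y)⟩
  map_one' := Subtype.ext rfl
  map_mul' _ _ := Subtype.ext rfl

theorem toSp_val (g : Cfsg.isometryGroup F ⇑Q) : (toSp hQ g).1 = g.1.1 := rfl

theorem toSp_Q (g : Cfsg.isometryGroup F ⇑Q) (x : Vec) : Q ((toSp hQ g).1 *ᵥ x) = Q x := g.2 x x

theorem toSp_injective : Function.Injective (toSp hQ) := fun _ _ h =>
  Subtype.ext (Units.ext (congrArg Subtype.val h))

theorem toSp_sq {a : Cfsg.isometryGroup F ⇑Q} (ha : a * a = 1) : toSp hQ a * toSp hQ a = 1 := by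
  rw [← map_mul, ha, map_one]

omit hQ in
/-- An element of the symplectic group as a unit. -/
def gl : Sp →* GL (Fin m ⊕ Fin m) F :=
  (Units.map (Matrix.symplecticGroup (Fin m) F).subtype).comp toUnits.toMonoidHom

omit hQ in
/-- An element of the symplectic group preserving the form. -/
def ofSp (g : Sp) (h : ∀ x, Q (g.1 *ᵥ x) = Q x) : Cfsg.isometryGroup F ⇑Q := ⟨gl g, fun u _ => h u⟩

theorem toSp_ofSp (g : Sp) (h : ∀ x, Q (g.1 *ᵥ x) = Q x) : toSp hQ (ofSp g h) = g := Subtype.ext rfl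

/-- The image of `Q` under a transvection. -/
theorem Q_tv (u : Vec) (c : F) (x : Vec) :
    Q ((tv u c).1 *ᵥ x) = Q x + (c ^ 2 * Q u + c) * B x u ^ 2 := by
  rw [tv_apply, Q_add hQ, Q_smul, B_smul_right]; ring

variable [Finite F]

/-- Every symplectic map changes `Q` by the square of a functional of the same type. -/
theorem exists_shift (g : Sp) : ∃ w : Vec, (∀ x, Q (g.1 *ᵥ x) = Q x + B x w ^ 2) ∧ P2 (Q w) := by
  have hg : g ∈ SympGen.TV F m := by rw [SympGen.TV_eq_top]; exact Subgroup.mem_top g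
  induction hg using Subgroup.closure_induction with
  | mem t ht =>
    obtain ⟨u, c, hc⟩ := ht
    obtain ⟨r, hr⟩ := SympInv.exists_sqrt (c ^ 2 * Q u + c)
    refine ⟨r • u, fun x => ?_, c * Q u, ?_⟩
    · rw [show t = tv u c from Subtype.ext hc, Q_tv hQ, B_smul_right, mul_pow, hr]
    · rw [Q_smul, hr]; ring
  | one => exact ⟨0, fun x => by rw [SympGen.one_apply]; simp [B], by rw [QuadraticMap.map_zero]; exact P2_zero⟩
  | mul g h _ _ ihg ihh =>
    obtain ⟨wg, hg, hgP⟩ := ihg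
    obtain ⟨wh, hh, hhP⟩ := ihh
    set z := (h⁻¹).1 *ᵥ wg with hz
    have hhz : h.1 *ᵥ z = wg := by rw [hz, ← SympGen.mul_apply, mul_inv_cancel, SympGen.one_apply]
    refine ⟨wh + z, fun x => ?_, ?_⟩
    · rw [SympGen.mul_apply, hg, hh, ← hhz, B_map, B_add_right, CharTwo.add_sq, add_assoc]
    · have h1 := hh z
      rw [hhz] at h1
      rw [Q_add hQ, B_comm wh z,
        show Q wh + Q z + B z wh = Q wh + Q wg + (B z wh ^ 2 + B z wh) by
          linear_combination (-1 : F) * h1 - B z wh ^ 2 * CharTwo.two_eq_zero (R := F)]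
      exact P2_add (P2_add hhP hgP) ⟨_, rfl⟩
  | inv g _ ih =>
    obtain ⟨w, hg, hgP⟩ := ih
    have hc : ∀ x, g.1 *ᵥ ((g⁻¹).1 *ᵥ x) = x := fun x => by
      rw [← SympGen.mul_apply, mul_inv_cancel, SympGen.one_apply]
    refine ⟨g.1 *ᵥ w, fun x => ?_, ?_⟩
    · have h1 := hg ((g⁻¹).1 *ᵥ x)
      rw [hc, ← B_map g ((g⁻¹).1 *ᵥ x) w, hc] at h1
      rw [h1, add_assoc, CharTwo.add_self_eq_zero, add_zero]
    · rw [hg, B_self]; simpa using hgP

omit [Finite F] in
theorem shift_unique {g : Sp} {w w' : Vec} (h : ∀ x, Q (g.1 *ᵥ x) = Q x + B x w ^ 2)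
    (h' : ∀ x, Q (g.1 *ᵥ x) = Q x + B x w' ^ 2) : w = w' := by
  rw [← sub_eq_zero, SympInv.vec_sub]
  refine eq_zero_of_B fun z => ?_
  have := (h z).symm.trans (h' z)
  rw [add_right_inj] at this
  rw [B_add_right, CharTwo.sq_injective this, CharTwo.add_self_eq_zero]

omit [Finite F] in
/-- A transvection with the given shift. -/
theorem exists_tv {w : Vec} (hw : P2 (Q w)) : ∃ c : F, ∀ x, Q ((tv w c).1 *ᵥ x) = Q x + B x w ^ 2 := by
  obtain ⟨c, hc⟩ : ∃ c : F, c ^ 2 * Q w + c = 1 := by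
    by_cases h : Q w = 0
    · exact ⟨1, by rw [h]; ring⟩
    · obtain ⟨y, hy⟩ := hw
      exact ⟨y / Q w, by field_simp; linear_combination hy⟩
  exact ⟨c, fun x => by rw [Q_tv hQ, hc, one_mul]⟩

omit [Finite F] in
theorem shift_fixed {g : Sp} {a b : Cfsg.isometryGroup F ⇑Q} (hab : g * toSp hQ a = toSp hQ b * g) {w : Vec}
    (hw : ∀ x, Q (g.1 *ᵥ x) = Q x + B x w ^ 2) : (toSp hQ a).1 *ᵥ w = w := by
  set A := toSp hQ a
  have h : ∀ x, B (A.1 *ᵥ x) w = B x w := fun x => by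
    have h1 := hw (A.1 *ᵥ x)
    rw [← SympGen.mul_apply, hab, SympGen.mul_apply, toSp_Q, toSp_Q, hw, add_right_inj] at h1
    exact (CharTwo.sq_injective h1).symm
  rw [← sub_eq_zero, SympInv.vec_sub]
  refine eq_zero_of_B fun z => ?_
  obtain ⟨x, rfl⟩ : ∃ x, A.1 *ᵥ x = z := ⟨(A⁻¹).1 *ᵥ z, by
    rw [← SympGen.mul_apply, mul_inv_cancel, SympGen.one_apply]⟩
  rw [B_add_right, B_map, h, CharTwo.add_self_eq_zero]

omit [Finite F] in
theorem tv_comm {A : Sp} {w : Vec} (h : A.1 *ᵥ w = w) (c : F) : tv w c * A = A * tv w c := by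
  have := conj_tv A w c
  rw [h, mul_inv_eq_iff_eq_mul] at this
  exact this.symm

/-- Conjugacy in the orthogonal group is conjugacy in the symplectic group. -/
theorem conj_of_symp {a b : Cfsg.isometryGroup F ⇑Q} (h : IsConj (toSp hQ a) (toSp hQ b)) : IsConj a b := by
  obtain ⟨g, hg⟩ := _root_.isConj_iff.1 h
  rw [mul_inv_eq_iff_eq_mul] at hg
  obtain ⟨w, hw, hwP⟩ := exists_shift hQ g
  obtain ⟨c, hc⟩ := exists_tv hQ hwP
  have hk : ∀ x, Q ((g * (tv w c)⁻¹).1 *ᵥ x) = Q x := fun x => by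
    obtain ⟨y, rfl⟩ : ∃ y, (tv w c).1 *ᵥ y = x := ⟨((tv w c)⁻¹).1 *ᵥ x, by
      rw [← SympGen.mul_apply, mul_inv_cancel, SympGen.one_apply]⟩
    rw [← SympGen.mul_apply, inv_mul_cancel_right, hw, hc]
  refine _root_.isConj_iff.2 ⟨ofSp (g * (tv w c)⁻¹) hk, toSp_injective hQ ?_⟩
  rw [map_mul, map_mul, map_inv, toSp_ofSp, mul_inv_eq_iff_eq_mul]
  have hcomm : (tv w c)⁻¹ * toSp hQ a = toSp hQ a * (tv w c)⁻¹ := by
    rw [inv_mul_eq_iff_eq_mul, ← mul_assoc, tv_comm hQ (shift_fixed hQ hg hw), mul_inv_cancel_right]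
  rw [mul_assoc, hcomm, ← mul_assoc, hg, mul_assoc]

theorem isConj_toSp_iff {a b : Cfsg.isometryGroup F ⇑Q} : IsConj (toSp hQ a) (toSp hQ b) ↔ IsConj a b :=
  ⟨conj_of_symp hQ, fun h => (toSp hQ).map_isConj h⟩

/-- Classes of involutions. -/
theorem isConj_iff {a b : Cfsg.isometryGroup F ⇑Q} (ha : a * a = 1) (hb : b * b = 1) :
    IsConj a b ↔ rk (toSp hQ a) = rk (toSp hQ b) ∧ (Alt (toSp hQ a) ↔ Alt (toSp hQ b)) := by
  rw [← isConj_toSp_iff hQ, SympInv.isConj_iff (toSp_sq hQ ha) (toSp_sq hQ hb)]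

omit [Finite F] in
theorem Q_N (a : Cfsg.isometryGroup F ⇑Q) (x : Vec) :
    Q (N (toSp hQ a) x) = beta (toSp hQ a) x x := by
  have h := toSp_Q hQ a x
  rw [apply_eq, Q_add hQ, B_comm] at h
  rw [beta]
  linear_combination h - B x (N (toSp hQ a) x) * CharTwo.two_eq_zero (R := F)

omit [Finite F] in
theorem alt_iff_Q (a : Cfsg.isometryGroup F ⇑Q) :
    Alt (toSp hQ a) ↔ ∀ x, Q (N (toSp hQ a) x) = 0 :=
  forall_congr' fun x => by rw [Q_N]

omit [Finite F] in
/-- Totally singular subspaces have dimension at most half. -/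
theorem finrank_le_of_singular (U : Submodule F Vec) (hU : ∀ u ∈ U, Q u = 0) : finrank F U ≤ m := by
  have hle : U ≤ LinearMap.BilinForm.orthogonal (polarBilin Q) U := fun x hx y hy => by
    show polar (⇑Q) y x = 0
    simp [polar, hU x hx, hU y hy, hU _ (U.add_mem hy hx)]
  have h1 := Submodule.finrank_mono hle
  rw [LinearMap.BilinForm.finrank_orthogonal (nondeg hQ)] at h1
  simp only [Module.finrank_fintype_fun_eq_card, Fintype.card_sum, Fintype.card_fin] at h1
  omega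

omit [Finite F] hQ in
theorem finrank_ker (g : Sp) : finrank F (LinearMap.ker (N g)) + rk g = m + m := by
  have := LinearMap.finrank_range_add_finrank_ker (N g)
  rw [← SympInv.rk_eq] at this
  simp only [Module.finrank_fintype_fun_eq_card, Fintype.card_sum, Fintype.card_fin] at this
  omega

omit [Finite F] hQ in
theorem apply_of_ker {g : Sp} {w : Vec} (h : N g w = 0) : g.1 *ᵥ w = w := by
  rw [apply_eq, h, zero_add]

/-! ### Membership in `Ω` -/

variable [Fintype F] (hc : Subgroup.closure (SpinorNorm.Refl Q) = ⊤)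

omit [Finite F] in
include hc in
theorem mem_Omega_iff (g : Cfsg.isometryGroup F ⇑Q) :
    g ∈ Cfsg.Omega F ⇑Q ↔ Even (rk (toSp hQ g)) := by
  obtain ⟨vs, hvs, hg⟩ := OmegaList.exists_list Q hc g
  rw [OmegaList.omega_iff_list Q hc (nondeg hQ) g vs hvs hg,
    and_iff_left (FiniteField.isSquare_of_char_two (ringChar.eq F 2) _)]
  have h1 := OmegaList.dickson_list Q hc (nondeg hQ) vs hvs g hg
  replace h1 : SpinorNorm.dickson Q (SpinorMatrix.isoEquiv Q g) = (-1) ^ vs.length := h1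
  have hfix : SpinorNorm.fixSpace Q (SpinorMatrix.isoEquiv Q g) = LinearMap.ker (N (toSp hQ g)) := by
    ext x
    rw [SpinorNorm.mem_fix, SpinorMatrix.isoEquiv_apply, LinearMap.mem_ker, N_apply]
    show g.1.1 *ᵥ x = x ↔ g.1.1 *ᵥ x + x = 0
    rw [← SympInv.vec_sub, sub_eq_zero]
  rw [SpinorNorm.dickson, hfix] at h1
  have h2 := finrank_ker (toSp hQ g)
  simp only [Module.finrank_fintype_fun_eq_card, Fintype.card_sum, Fintype.card_fin] at h1
  set d := finrank F (LinearMap.ker (N (toSp hQ g)))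
  have hne : (1 : ℤˣ) ≠ -1 := by decide
  rcases Nat.even_or_odd vs.length with hl | hl <;> rcases Nat.even_or_odd (m + m + d) with hd | hd
  · refine iff_of_true hl ?_
    rw [Nat.even_iff] at hd ⊢; omega
  · rw [hl.neg_one_pow, hd.neg_one_pow] at h1; exact absurd h1.symm hne
  · rw [hl.neg_one_pow, hd.neg_one_pow] at h1; exact absurd h1 hne
  · refine iff_of_false (Nat.not_even_iff_odd.2 hl) ?_
    rw [Nat.odd_iff] at hd; rw [Nat.even_iff]; omega

omit [Finite F] [Fintype F] in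
/-- The reflection in a nonsingular vector. -/
theorem exists_refl {w : Vec} (hw : Q w ≠ 0) :
    ∃ r : Cfsg.isometryGroup F ⇑Q, toSp hQ r = tv w (Q w)⁻¹ ∧ r.1.1 = OmegaList.RP Q [w] := by
  refine ⟨ofSp (tv w (Q w)⁻¹) fun x => ?_, toSp_ofSp hQ _ _, ?_⟩
  · rw [Q_tv hQ, show (Q w)⁻¹ ^ 2 * Q w + (Q w)⁻¹ = 0 by
      field_simp; rw [mul_zero]; exact CharTwo.add_self_eq_zero (1 : F)]
    ring
  · refine Matrix.ext_of_mulVec_single fun i => ?_
    show (tv w (Q w)⁻¹).1 *ᵥ _ = _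
    rw [tv_apply, OmegaList.RP, List.map_cons, List.map_nil, List.prod_singleton,
      PolarVec.reflection_mulVec, CharTwo.neg_eq, hQ, B_comm w]

omit [Finite F] in
include hc in
theorem refl_not_mem {r : Cfsg.isometryGroup F ⇑Q} {w : Vec} (hw : Q w ≠ 0)
    (hr : r.1.1 = OmegaList.RP Q [w]) : r ∉ Cfsg.Omega F ⇑Q := by
  rw [OmegaList.omega_iff_list Q hc (nondeg hQ) r [w] (by simpa using hw) hr]
  simp

include hc in
/-- An odd element commuting with an involution. -/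
theorem exists_odd_commuting {a : Cfsg.isometryGroup F ⇑Q} (ha : a * a = 1)
    (h : ¬ (rk (toSp hQ a) = m ∧ Alt (toSp hQ a))) :
    ∃ r : Cfsg.isometryGroup F ⇑Q, r * a = a * r ∧ r ∉ Cfsg.Omega F ⇑Q := by
  set A := toSp hQ a with hA
  have hAA : A * A = 1 := toSp_sq hQ ha
  obtain ⟨w, hwN, hw⟩ : ∃ w, N A w = 0 ∧ Q w ≠ 0 := by
    by_cases halt : Alt A
    · by_contra hcon
      push Not at hcon
      have h1 := finrank_le_of_singular hQ (LinearMap.ker (N A)) fun u hu => hcon u hu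
      have h2 := finrank_ker A
      have h3 := SympInv.rk_le hAA
      exact h ⟨by omega, halt⟩
    · obtain ⟨x, hx⟩ := not_forall.1 halt
      exact ⟨N A x, SympInv.N_N hAA x, by rw [Q_N]; exact hx⟩
  obtain ⟨r, hr, hrm⟩ := exists_refl hQ hw
  refine ⟨r, toSp_injective hQ ?_, refl_not_mem hQ hc hw hrm⟩
  rw [map_mul, map_mul, hr, ← hA, tv_comm hQ (apply_of_ker hwN)]

omit [Finite F] in
include hc in
theorem mul_mem_Omega_iff (g h : Cfsg.isometryGroup F ⇑Q) :
    g * h ∈ Cfsg.Omega F ⇑Q ↔ (g ∈ Cfsg.Omega F ⇑Q ↔ h ∈ Cfsg.Omega F ⇑Q) := by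
  classical
  rcases Nat.eq_zero_or_pos m with rfl | hm
  · simp [Subgroup.one_mem, show g = 1 from toSp_injective hQ (Subtype.ext (Subsingleton.elim _ _)),
      show h = 1 from toSp_injective hQ (Subtype.ext (Subsingleton.elim _ _))]
  refine Subgroup.mul_mem_iff_of_index_two ?_
  rw [Cfsg.Omega, SpinorMatrix.comap_commutator (SpinorMatrix.isoEquiv Q),
    Subgroup.index_comap_of_surjective _ (SpinorMatrix.isoEquiv Q).surjective]
  exact SpinorMatrix.index_commutator_two Q CharTwo.two_eq_zero (nondeg hQ)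
    (by rw [Module.finrank_pi, Fintype.card_sum, Fintype.card_fin]; omega) hc

include hc in
/-- Conjugate involutions are conjugate under `Ω` in the generic case. -/
theorem exists_conj_Omega {a b : Cfsg.isometryGroup F ⇑Q} (ha : a * a = 1)
    (h : ¬ (rk (toSp hQ a) = m ∧ Alt (toSp hQ a))) (hab : IsConj a b) :
    ∃ g ∈ Cfsg.Omega F ⇑Q, g * a * g⁻¹ = b := by
  obtain ⟨g, hg⟩ := _root_.isConj_iff.1 hab
  by_cases hgO : g ∈ Cfsg.Omega F ⇑Q
  · exact ⟨g, hgO, hg⟩
  · obtain ⟨r, hr, hrO⟩ := exists_odd_commuting hQ hc ha h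
    refine ⟨g * r, (mul_mem_Omega_iff hQ hc g r).2 (iff_of_false hgO hrO), ?_⟩
    rw [_root_.mul_inv_rev, mul_assoc g r a, hr, ← hg]
    group

/-! ### Centralisers -/

omit [Fintype F] in
/-- The symplectic centraliser is the orthogonal one times the admissible shifts. -/
theorem card_centralizer_symp (a : Cfsg.isometryGroup F ⇑Q) :
    Nat.card (Subgroup.centralizer ({toSp hQ a} : Set Sp)) =
      Nat.card {g : Cfsg.isometryGroup F ⇑Q // g * a = a * g} *
        Nat.card {w : Vec // (toSp hQ a).1 *ᵥ w = w ∧ P2 (Q w)} := by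
  set A := toSp hQ a
  choose c hc using fun w : {w : Vec // A.1 *ᵥ w = w ∧ P2 (Q w)} => exists_tv hQ w.2.2
  rw [← Nat.card_prod]
  refine (Nat.card_eq_of_bijective (fun p : {g : Cfsg.isometryGroup F ⇑Q // g * a = a * g} ×
      {w : Vec // A.1 *ᵥ w = w ∧ P2 (Q w)} => (⟨toSp hQ p.1.1 * tv p.2.1 (c p.2),
        Subgroup.mem_centralizer_singleton_iff.2 (by
          rw [mul_assoc, tv_comm hQ p.2.2.1, ← mul_assoc, ← map_mul, p.1.2, map_mul, mul_assoc])⟩ :
      Subgroup.centralizer ({A} : Set Sp))) ⟨?_, ?_⟩).symm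
  · rintro ⟨g, w⟩ ⟨g', w'⟩ h
    have h1 : toSp hQ g.1 * tv w.1 (c w) = toSp hQ g'.1 * tv w'.1 (c w') := congrArg Subtype.val h
    have hw : w = w' := Subtype.ext (shift_unique hQ (g := toSp hQ g.1 * tv w.1 (c w))
      (fun x => by rw [SympGen.mul_apply, toSp_Q, hc]) (fun x => by rw [h1, SympGen.mul_apply, toSp_Q, hc]))
    subst hw
    exact Prod.ext (Subtype.ext (toSp_injective hQ (mul_right_cancel h1))) rfl
  · rintro ⟨g, hg⟩
    have hga : g * A = A * g := Subgroup.mem_centralizer_singleton_iff.1 hg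
    obtain ⟨w, hw, hwP⟩ := exists_shift hQ g
    let w' : {w : Vec // A.1 *ᵥ w = w ∧ P2 (Q w)} := ⟨w, shift_fixed hQ (a := a) (b := a) hga hw, hwP⟩
    set k := g * (tv w (c w'))⁻¹
    have hk : ∀ x, Q (k.1 *ᵥ x) = Q x := fun x => by
      obtain ⟨y, rfl⟩ : ∃ y, (tv w (c w')).1 *ᵥ y = x := ⟨((tv w (c w'))⁻¹).1 *ᵥ x, by
        rw [← SympGen.mul_apply, mul_inv_cancel, SympGen.one_apply]⟩
      rw [← SympGen.mul_apply, inv_mul_cancel_right, hw, hc w']
    refine ⟨(⟨ofSp k hk, toSp_injective hQ ?_⟩, w'), Subtype.ext ?_⟩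
    · rw [map_mul, map_mul, toSp_ofSp]
      show k * A = A * k
      have hcomm : (tv w (c w'))⁻¹ * A = A * (tv w (c w'))⁻¹ := by
        rw [inv_mul_eq_iff_eq_mul, ← mul_assoc, tv_comm hQ w'.2.1, mul_inv_cancel_right]
      rw [mul_assoc, hcomm, ← mul_assoc, hga, mul_assoc]
    · show toSp hQ (ofSp k hk) * tv w (c w') = g
      rw [toSp_ofSp, inv_mul_cancel_right]

omit [Fintype F] in
/-- The admissible shifts of a non-alternating involution. -/
theorem card_shift_not_alt {a : Cfsg.isometryGroup F ⇑Q} (ha : a * a = 1) (h : ¬ Alt (toSp hQ a)) :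
    2 * Nat.card {w : Vec // (toSp hQ a).1 *ᵥ w = w ∧ P2 (Q w)} =
      Nat.card F ^ (2 * m - rk (toSp hQ a)) := by
  set A := toSp hQ a
  obtain ⟨x, hx⟩ := not_forall.1 h
  obtain ⟨e, he⟩ := exists_not_P2 (F := F)
  set z := N A x
  have hz : Q z ≠ 0 := by rw [Q_N]; exact hx
  obtain ⟨t, ht⟩ := SympInv.exists_sqrt (e / Q z)
  have hK : ∀ w, A.1 *ᵥ w = w ↔ w ∈ LinearMap.ker (N A) := fun w => by
    rw [LinearMap.mem_ker, N_apply, ← SympInv.vec_sub, sub_eq_zero]
  have hzK : z ∈ LinearMap.ker (N A) := SympInv.N_N (toSp_sq hQ ha) x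
  have hBz : ∀ w ∈ LinearMap.ker (N A), B w z = 0 := fun w hw => by
    rw [LinearMap.mem_ker] at hw
    show B w (N A x) = 0
    rw [← SympInv.B_N (toSp_sq hQ ha), hw]; simp [B]
  have hQ' : ∀ w ∈ LinearMap.ker (N A), Q (w + t • z) = Q w + e := fun w hw => by
    rw [Q_add hQ, Q_smul, B_smul_right, hBz w hw, ht, div_mul_cancel₀ _ hz, mul_zero, add_zero]
  let K := LinearMap.ker (N A)
  have e1 : Nat.card {w : Vec // A.1 *ᵥ w = w ∧ P2 (Q w)} = Nat.card {w : K // P2 (Q w.1)} :=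
    Nat.card_congr ((Equiv.subtypeEquivRight fun w => and_congr_left' (hK w)).trans
      (Equiv.subtypeSubtypeEquivSubtypeInter _ _).symm)
  have e2 : Nat.card {w : K // ¬ P2 (Q w.1)} = Nat.card {w : K // P2 (Q w.1)} := by
    refine (Nat.card_congr (Equiv.subtypeEquiv (Equiv.addRight (⟨t • z, K.smul_mem t hzK⟩ : K)) fun w => ?_)).symm
    show P2 (Q w.1) ↔ ¬ P2 (Q (w.1 + t • z))
    rw [hQ' _ w.2, P2_add_iff]
    tauto
  have e3 : Nat.card K = Nat.card F ^ (2 * m - rk A) := by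
    rw [Module.natCard_eq_pow_finrank (K := F) (V := K)]
    congr 1
    have : finrank F K + rk A = m + m := finrank_ker A
    omega
  classical
  rw [e1, ← e3, ← Nat.card_congr (Equiv.sumCompl fun w : K => P2 (Q w.1)), Nat.card_sum, e2, two_mul]

omit [Finite F] in
include hc in
/-- Half of the centraliser lies in `Ω` in the generic case. -/
theorem two_mul_card_centralizer_Omega {a r : Cfsg.isometryGroup F ⇑Q} (hr : r * a = a * r)
    (hrO : r ∉ Cfsg.Omega F ⇑Q) :
    2 * Nat.card {g : ↥(Cfsg.Omega F ⇑Q) // g.1 * a = a * g.1} =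
      Nat.card {g : Cfsg.isometryGroup F ⇑Q // g * a = a * g} := by
  classical
  have e1 : Nat.card {g : ↥(Cfsg.Omega F ⇑Q) // g.1 * a = a * g.1} =
      Nat.card {g : {g : Cfsg.isometryGroup F ⇑Q // g * a = a * g} // g.1 ∈ Cfsg.Omega F ⇑Q} :=
    Nat.card_congr ⟨fun g => ⟨⟨g.1.1, g.2⟩, g.1.2⟩, fun g => ⟨⟨g.1.1, g.2⟩, g.1.2⟩, fun _ => rfl, fun _ => rfl⟩
  have hri : r⁻¹ * a = a * r⁻¹ := by
    rw [inv_mul_eq_iff_eq_mul, ← mul_assoc, hr, mul_inv_cancel_right]
  let φ : {g : Cfsg.isometryGroup F ⇑Q // g * a = a * g} ≃ {g : Cfsg.isometryGroup F ⇑Q // g * a = a * g} :=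
    { toFun := fun g => ⟨g.1 * r, by rw [mul_assoc, hr, ← mul_assoc, g.2, mul_assoc]⟩
      invFun := fun g => ⟨g.1 * r⁻¹, by rw [mul_assoc, hri, ← mul_assoc, g.2, mul_assoc]⟩
      left_inv := fun g => Subtype.ext (mul_inv_cancel_right _ _)
      right_inv := fun g => Subtype.ext (inv_mul_cancel_right _ _) }
  have e2 : Nat.card {g : {g : Cfsg.isometryGroup F ⇑Q // g * a = a * g} // ¬ g.1 ∈ Cfsg.Omega F ⇑Q} =
      Nat.card {g : {g : Cfsg.isometryGroup F ⇑Q // g * a = a * g} // g.1 ∈ Cfsg.Omega F ⇑Q} :=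
    (Nat.card_congr (Equiv.subtypeEquiv φ fun g => by
      show g.1 ∈ _ ↔ ¬ g.1 * r ∈ _
      rw [mul_mem_Omega_iff hQ hc, iff_false_right hrO]
      tauto)).symm
  rw [e1, ← Nat.card_congr (Equiv.sumCompl fun g : {g : Cfsg.isometryGroup F ⇑Q // g * a = a * g} =>
    g.1 ∈ Cfsg.Omega F ⇑Q), Nat.card_sum, e2, two_mul]

end CfsgLib.SympOrth
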