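/-
The plus and minus models in characteristic two.
-/
import Cfsg.Agent.Lib.SympInvolution.OrthForm
import Cfsg.Agent.Lib.StdQuadForms
import Cfsg.Agent.Lib.OmegaLag

set_option autoImplicit false
set_option linter.unusedSectionVars false
set_option linter.dupNamespace false

namespace CfsgLib.SympOrth

open Matrix QuadraticMap Module
open CfsgLib.SympGen (B B_map)
open CfsgLib.SympInv (N N_apply apply_eq rk Alt beta B_formula B_comm uni uni_sq)
open CfsgLib.Lagrangian (Qp Qp_apply IsLag)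

variable {F : Type*} [Field F] [CharP F 2] {m : ℕ}

local notation "Vec" => (Fin m ⊕ Fin m → F)
local notation "Sp" => Matrix.symplecticGroup (Fin m) F

/-! ### Change of coordinates -/

section transfer

variable {κ : Type} [Fintype κ] [DecidableEq κ] (T : (κ → F) ≃ₗ[F] (Fin m ⊕ Fin m → F))

/-- Conjugation by a change of coordinates. -/
noncomputable def conjGL : GL κ F ≃* GL (Fin m ⊕ Fin m) F :=
  Matrix.GeneralLinearGroup.toLin.trans ((LinearMap.GeneralLinearGroup.congrLinearEquiv T).trans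
    Matrix.GeneralLinearGroup.toLin.symm)

theorem conjGL_apply (g : GL κ F) (x : κ → F) : (conjGL T g).1 *ᵥ T x = T (g.1 *ᵥ x) := by
  show (LinearMap.toMatrix' _) *ᵥ T x = _
  rw [LinearMap.toMatrix'_mulVec]
  show T (g.1 *ᵥ T.symm (T x)) = _
  rw [LinearEquiv.symm_apply_apply]

variable {Q : QuadraticForm F (Fin m ⊕ Fin m → F)} {f : (κ → F) → F} (hT : ∀ x, Q (T x) = f x)
include hT

theorem mem_iff (g : GL κ F) :
    g ∈ Cfsg.isometryGroup F f ↔ conjGL T g ∈ Cfsg.isometryGroup F ⇑Q := by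
  constructor
  · intro h u _
    obtain ⟨x, rfl⟩ := T.surjective u
    show Q ((conjGL T g).1 *ᵥ T x) = Q (T x)
    rw [conjGL_apply, hT, hT]
    exact h x x
  · intro h u _
    show f (g.1 *ᵥ u) = f u
    rw [← hT, ← conjGL_apply, ← hT]
    exact h (T u) (T u)

/-- The isometry groups correspond. -/
noncomputable def isoE : Cfsg.isometryGroup F f ≃* Cfsg.isometryGroup F ⇑Q where
  toFun g := ⟨conjGL T g.1, (mem_iff T hT g.1).1 g.2⟩
  invFun g := ⟨(conjGL T).symm g.1, (mem_iff T hT _).2 (by rw [MulEquiv.apply_symm_apply]; exact g.2)⟩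
  left_inv g := Subtype.ext ((conjGL T).symm_apply_apply g.1)
  right_inv g := Subtype.ext ((conjGL T).apply_symm_apply g.1)
  map_mul' g h := Subtype.ext (map_mul (conjGL T) g.1 h.1)

theorem mem_Omega_isoE (g : Cfsg.isometryGroup F f) :
    isoE T hT g ∈ Cfsg.Omega F ⇑Q ↔ g ∈ Cfsg.Omega F f := by
  unfold Cfsg.Omega
  rw [SpinorMatrix.comap_commutator (isoE T hT)]
  rfl

theorem orderOf_isoE (g : Cfsg.isometryGroup F f) : orderOf (isoE T hT g) = orderOf g :=
  MulEquiv.orderOf_eq _ g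

variable (hQ : Polar Q)
include hQ

theorem N_isoE (g : Cfsg.isometryGroup F f) (x : κ → F) :
    N (toSp hQ (isoE T hT g)) (T x) = T ((g.1.1 - 1) *ᵥ x) := by
  rw [N, Matrix.mulVecLin_apply, Matrix.sub_mulVec, Matrix.sub_mulVec, Matrix.one_mulVec, Matrix.one_mulVec,
    map_sub]
  congr 1
  exact conjGL_apply T g.1 x

theorem range_N_isoE (g : Cfsg.isometryGroup F f) :
    LinearMap.range (N (toSp hQ (isoE T hT g))) =
      (LinearMap.range (g.1.1 - 1).mulVecLin).map (T : (κ → F) →ₗ[F] Vec) := by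
  ext y
  constructor
  · rintro ⟨z, rfl⟩
    obtain ⟨x, rfl⟩ := T.surjective z
    exact ⟨(g.1.1 - 1) *ᵥ x, ⟨x, rfl⟩, (N_isoE T hT hQ g x).symm⟩
  · rintro ⟨_, ⟨x, rfl⟩, rfl⟩
    exact ⟨T x, N_isoE T hT hQ g x⟩

theorem rk_isoE (g : Cfsg.isometryGroup F f) : rk (toSp hQ (isoE T hT g)) = (g.1.1 - 1).rank := by
  rw [SympInv.rk_eq, range_N_isoE T hT hQ]
  exact LinearEquiv.finrank_map_eq T _

theorem alt_isoE_sub [Finite F] (g : Cfsg.isometryGroup F f) :
    Alt (toSp hQ (isoE T hT g)) ↔ ∀ v, f ((g.1.1 - 1) *ᵥ v) = 0 := by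
  rw [alt_iff_Q hQ]
  constructor
  · intro h v
    rw [← hT, ← N_isoE T hT hQ]
    exact h _
  · intro h x
    obtain ⟨v, rfl⟩ := T.surjective x
    rw [N_isoE T hT hQ, hT]
    exact h v

theorem alt_isoE_add [Finite F] (g : Cfsg.isometryGroup F f) :
    Alt (toSp hQ (isoE T hT g)) ↔ ∀ v, f (v + g.1.1 *ᵥ v) = 0 := by
  rw [alt_isoE_sub T hT hQ]
  refine forall_congr' fun v => ?_
  rw [Matrix.sub_mulVec, Matrix.one_mulVec, add_comm,
    show g.1.1 *ᵥ v - v = g.1.1 *ᵥ v + v from funext fun i => CharTwo.sub_eq_add _ _]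

theorem polar_f (u v : κ → F) : f (u + v) - f u - f v = B (T u) (T v) := by
  rw [← hT, ← hT, ← hT, map_add, ← hQ]; rfl

theorem exists_conj_iff (t s : Cfsg.isometryGroup F f) :
    (∃ g ∈ Cfsg.preserving (Units.coeHom (Matrix κ κ F)) (fun u v => f (u + v) - f u - f v),
      g * t.1 * g⁻¹ = s.1) ↔ IsConj (toSp hQ (isoE T hT t)) (toSp hQ (isoE T hT s)) := by
  rw [_root_.isConj_iff]
  constructor
  · rintro ⟨g, hg, hgts⟩
    refine ⟨⟨(conjGL T g).1, mem_symp _ fun x y => ?_⟩, ?_⟩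
    · obtain ⟨u, rfl⟩ := T.surjective x
      obtain ⟨v, rfl⟩ := T.surjective y
      rw [conjGL_apply, conjGL_apply, ← polar_f T hT hQ, ← polar_f T hT hQ]
      exact hg u v
    · rw [mul_inv_eq_iff_eq_mul] at hgts ⊢
      exact Subtype.ext (congrArg Units.val
        ((map_mul (conjGL T) g t.1).symm.trans ((congrArg (conjGL T) hgts).trans (map_mul (conjGL T) s.1 g))))
  · rintro ⟨h, hh⟩
    refine ⟨(conjGL T).symm (gl h), fun u v => ?_, ?_⟩
    · have e : ∀ x, T (((conjGL T).symm (gl h)).1 *ᵥ x) = h.1 *ᵥ T x := fun x => by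
        rw [← conjGL_apply, MulEquiv.apply_symm_apply]; rfl
      show f (_ + _) - f _ - f _ = f (u + v) - f u - f v
      rw [polar_f T hT hQ, polar_f T hT hQ]
      show B (T (((conjGL T).symm (gl h)).1 *ᵥ u)) (T (((conjGL T).symm (gl h)).1 *ᵥ v)) = _
      rw [e, e, B_map]
    · refine (conjGL T).injective ?_
      rw [map_mul, map_mul, map_inv, MulEquiv.apply_symm_apply, mul_inv_eq_iff_eq_mul]
      rw [mul_inv_eq_iff_eq_mul] at hh
      refine Units.ext ?_
      show h.1 * (conjGL T t.1).1 = (conjGL T s.1).1 * h.1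
      exact congrArg Subtype.val hh

end transfer

/-! ### Forms -/

/-- The form `Σ x_i y_i + α_i x_i² + δ_i y_i²`. -/
def Qd (α δ : Fin m → F) : QuadraticForm F (Fin m ⊕ Fin m → F) :=
  Qp m F + ∑ i, (α i • QuadraticMap.proj (Sum.inl i) (Sum.inl i) + δ i • QuadraticMap.proj (Sum.inr i) (Sum.inr i))

theorem Qd_apply (α δ : Fin m → F) (x : Vec) :
    Qd α δ x = ∑ i, (x (Sum.inl i) * x (Sum.inr i) + α i * x (Sum.inl i) ^ 2 + δ i * x (Sum.inr i) ^ 2) := by
  simp [Qd, Qp_apply, Cfsg.quadFormPlus, Finset.sum_add_distrib]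
  ring_nf

theorem Qd_polar (α δ : Fin m → F) : Polar (Qd α δ) := by
  intro x y
  simp only [polar, Qd_apply, B_formula, Pi.add_apply, ← Finset.sum_sub_distrib, CharTwo.add_sq]
  exact Finset.sum_congr rfl fun i _ => by ring

theorem Qd_zero : Qd (0 : Fin m → F) 0 = Qp m F := by ext x; simp [Qd_apply, Qp_apply, Cfsg.quadFormPlus]

theorem Qp_polar : Polar (Qp m F) := Qd_zero (F := F) (m := m) ▸ Qd_polar 0 0

/-- The lower unitriangular change `r ↦ r + D l`. -/
def gD (D : Fin m → F) : Sp :=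
  ⟨Matrix.fromBlocks 1 0 (Matrix.diagonal D) 1, mem_symp _ fun x y => by
    simp only [B_formula, Matrix.fromBlocks_mulVec, Sum.elim_inl, Sum.elim_inr, Matrix.one_mulVec,
      Matrix.zero_mulVec, add_zero, Pi.add_apply, Function.comp_apply, Matrix.mulVec_diagonal]
    refine Finset.sum_congr rfl fun i _ => ?_
    linear_combination (D i * x (Sum.inl i) * y (Sum.inl i)) * CharTwo.two_eq_zero (R := F)⟩

theorem gD_apply_l (D : Fin m → F) (x : Vec) (i : Fin m) : ((gD D).1 *ᵥ x) (Sum.inl i) = x (Sum.inl i) := by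
  simp [gD, Matrix.fromBlocks_mulVec]

theorem gD_apply_r (D : Fin m → F) (x : Vec) (i : Fin m) :
    ((gD D).1 *ᵥ x) (Sum.inr i) = x (Sum.inr i) + D i * x (Sum.inl i) := by
  simp [gD, Matrix.fromBlocks_mulVec, Matrix.mulVec_diagonal, add_comm]

theorem gD_sq (D : Fin m → F) : gD D * gD D = 1 := by
  refine Subtype.ext (Matrix.ext_of_mulVec_single fun j => funext fun r => ?_)
  rw [SympGen.mul_apply, SympGen.one_apply]
  rcases r with i | i
  · rw [gD_apply_l, gD_apply_l]
  · rw [gD_apply_r, gD_apply_r, gD_apply_l, add_assoc, CharTwo.add_self_eq_zero, add_zero]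

section uni

variable {C : Matrix (Fin m) (Fin m) F} (hC : Cᵀ = C)

theorem uni_apply_l (x : Vec) (i : Fin m) :
    ((uni C hC).1 *ᵥ x) (Sum.inl i) = x (Sum.inl i) + (C *ᵥ fun j => x (Sum.inr j)) i := by
  simp [uni, Matrix.fromBlocks_mulVec, Function.comp_def]

theorem uni_apply_r (x : Vec) (i : Fin m) : ((uni C hC).1 *ᵥ x) (Sum.inr i) = x (Sum.inr i) := by
  simp [uni, Matrix.fromBlocks_mulVec]

theorem N_uni (x : Vec) : N (uni C hC) x = Sum.elim (C *ᵥ fun j => x (Sum.inr j)) 0 := by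
  funext r
  rw [N_apply]
  rcases r with i | i
  · rw [Pi.add_apply, uni_apply_l, Sum.elim_inl, add_comm (x (Sum.inl i)), add_assoc,
      CharTwo.add_self_eq_zero, add_zero]
  · rw [Pi.add_apply, uni_apply_r, Sum.elim_inr, CharTwo.add_self_eq_zero]; rfl

theorem rk_uni : rk (uni C hC) = C.rank := by
  rw [SympInv.rk_eq, Matrix.rank]
  let L : (Fin m → F) →ₗ[F] Vec :=
    { toFun := fun a => Sum.elim a 0
      map_add' := fun a b => by funext r; rcases r with r | r <;> simp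
      map_smul' := fun c a => by funext r; rcases r with r | r <;> simp }
  have hL : Function.Injective L := fun a b h => funext fun i => congrFun h (Sum.inl i)
  suffices h : LinearMap.range (N (uni C hC)) = (LinearMap.range C.mulVecLin).map L by
    rw [h]
    exact (Submodule.equivMapOfInjective L hL (LinearMap.range C.mulVecLin)).finrank_eq.symm
  ext y
  constructor
  · rintro ⟨x, rfl⟩
    exact ⟨_, ⟨fun j => x (Sum.inr j), rfl⟩, (N_uni hC x).symm⟩
  · rintro ⟨_, ⟨a, rfl⟩, rfl⟩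
    exact ⟨Sum.elim 0 a, by rw [N_uni]; rfl⟩

theorem beta_uni (x : Vec) :
    beta (uni C hC) x x = (fun j => x (Sum.inr j)) ⬝ᵥ (C *ᵥ fun j => x (Sum.inr j)) := by
  rw [beta, N_uni, B_formula, dotProduct]
  simp

theorem alt_uni (hd : ∀ i, C i i = 0) : Alt (uni C hC) := fun x => by
  rw [beta_uni, SympInv.quad_zero C hC hd]

theorem not_alt_uni {i : Fin m} (hi : C i i ≠ 0) : ¬ Alt (uni C hC) := fun h => hi (by
  have := h (Pi.single (Sum.inr i) 1)
  rw [beta_uni, show (fun j => (Pi.single (Sum.inr i) 1 : Vec) (Sum.inr j)) = Pi.single i 1 by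
    funext j; simp [Pi.single_apply]] at this
  simpa [single_dotProduct, Matrix.mulVec_single_one] using this)

end uni

/-- A standard orthogonal involution conjugate to a unitriangular one. -/
theorem exists_model [Finite F] {α δ : Fin m → F} {C : Matrix (Fin m) (Fin m) F} (hC : Cᵀ = C) (D : Fin m → F)
    (h : ∀ r : Fin m → F, r ⬝ᵥ (C *ᵥ r) + ∑ i, (D i + α i + δ i * D i ^ 2) * (C *ᵥ r) i ^ 2 = 0) :
    ∃ a : Cfsg.isometryGroup F ⇑(Qd α δ), a * a = 1 ∧ rk (toSp (Qd_polar α δ) a) = C.rank ∧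
      (Alt (toSp (Qd_polar α δ) a) ↔ Alt (uni C hC)) := by
  set g := gD D
  set u := uni C hC
  have hgx : ∀ x, Qd α δ (g.1 *ᵥ x) = Qd (fun i => D i + α i + δ i * D i ^ 2) δ x := fun x => by
    simp only [Qd_apply, g, gD_apply_l, gD_apply_r, CharTwo.add_sq]
    exact Finset.sum_congr rfl fun i _ => by ring
  have hux : ∀ x, Qd (fun i => D i + α i + δ i * D i ^ 2) δ (u.1 *ᵥ x) =
      Qd (fun i => D i + α i + δ i * D i ^ 2) δ x := fun x => by
    simp only [Qd_apply, u, uni_apply_l, uni_apply_r, CharTwo.add_sq]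
    set r : Fin m → F := fun j => x (Sum.inr j)
    have h1 := h r
    rw [dotProduct, ← Finset.sum_add_distrib] at h1
    rw [← sub_eq_zero, ← Finset.sum_sub_distrib, ← h1]
    exact Finset.sum_congr rfl fun i _ => by simp only [r]; ring
  have hgg : g * g = 1 := gD_sq D
  have huu : u * u = 1 := uni_sq C hC
  have hq : ∀ x, Qd α δ ((g * u * g).1 *ᵥ x) = Qd α δ x := fun x => by
    rw [SympGen.mul_apply, SympGen.mul_apply, hgx, hux, ← hgx, ← SympGen.mul_apply, hgg, SympGen.one_apply]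
  refine ⟨ofSp (g * u * g) hq, toSp_injective (Qd_polar α δ) ?_, ?_⟩
  · rw [map_mul, map_one, toSp_ofSp]
    calc g * u * g * (g * u * g) = g * u * (g * g) * (u * g) := by group
      _ = g * (u * u) * g := by rw [hgg, mul_one]; group
      _ = 1 := by rw [huu, mul_one, hgg]
  · rw [toSp_ofSp, ← rk_uni hC]
    refine (SympInv.isConj_iff ?_ huu).1 (_root_.isConj_iff.2 ⟨g, ?_⟩)
    · calc g * u * g * (g * u * g) = g * u * (g * g) * (u * g) := by group
        _ = g * (u * u) * g := by rw [hgg, mul_one]; group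
        _ = 1 := by rw [huu, mul_one, hgg]
    · rw [inv_eq_of_mul_eq_one_left hgg]
      calc g * (g * u * g) * g = (g * g) * u * (g * g) := by group
        _ = u := by rw [hgg, one_mul, mul_one]

/-- The partial pairing matrix. -/
def pairC (F : Type*) [Field F] (m r : ℕ) : Matrix (Fin m) (Fin m) F :=
  Matrix.of fun i j => if (i : ℕ) < 2 * r ∧ (j : ℕ) < 2 * r ∧ (i : ℕ) / 2 = (j : ℕ) / 2 ∧ (i : ℕ) ≠ j then 1 else 0

theorem pairC_symm (r : ℕ) : (pairC F m r)ᵀ = pairC F m r := by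
  ext i j
  simp only [pairC, Matrix.transpose_apply, Matrix.of_apply]
  exact if_congr (by omega) rfl rfl

theorem pairC_diag (r : ℕ) (i : Fin m) : pairC F m r i i = 0 := by simp [pairC]

theorem pairC_apply_zero (r : ℕ) {i : Fin m} (hi : 2 * r ≤ (i : ℕ)) (x : Fin m → F) : (pairC F m r *ᵥ x) i = 0 := by
  rw [Matrix.mulVec, dotProduct]
  refine Finset.sum_eq_zero fun j _ => ?_
  simp only [pairC, Matrix.of_apply]
  rw [if_neg (by omega), zero_mul]

theorem pairC_rank {r : ℕ} (hr : 2 * r ≤ m) : (pairC F m r).rank = 2 * r := by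
  classical
  have hsq : pairC F m r * pairC F m r = Matrix.diagonal fun i : Fin m => if (i : ℕ) < 2 * r then (1 : F) else 0 := by
    ext i j
    rw [Matrix.mul_apply, Matrix.diagonal_apply]
    by_cases hi : (i : ℕ) < 2 * r
    · obtain ⟨k, hk1, hk2⟩ : ∃ k : Fin m, (k : ℕ) / 2 = (i : ℕ) / 2 ∧ (k : ℕ) ≠ i :=
        ⟨⟨if (i : ℕ) % 2 = 0 then i + 1 else i - 1, by split_ifs <;> omega⟩, by dsimp; split_ifs <;> omega,
          by dsimp; split_ifs <;> omega⟩
      rw [Finset.sum_eq_single k]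
      · simp only [pairC, Matrix.of_apply, if_pos hi]
        rw [if_pos (by omega), one_mul]
        exact if_congr (by rw [Fin.ext_iff]; omega) rfl rfl
      · intro l _ hl
        rw [Ne, Fin.ext_iff] at hl
        simp only [pairC, Matrix.of_apply]
        rw [if_neg (by omega), zero_mul]
      · simp
    · rw [Finset.sum_eq_zero]
      · simp [hi]
      · intro l _
        simp only [pairC, Matrix.of_apply]
        rw [if_neg (by omega), zero_mul]
  have hd : (pairC F m r * pairC F m r).rank = 2 * r := by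
    rw [hsq, Matrix.rank_diagonal]
    simp only [ne_eq, ite_eq_right_iff, one_ne_zero, imp_false, not_not]
    exact (Fintype.card_congr (β := Fin (2 * r)) ⟨fun i => ⟨i.1, i.2⟩, fun i => ⟨Fin.castLE hr i, i.isLt⟩,
      fun _ => rfl, fun _ => rfl⟩).trans (Fintype.card_fin _)
  have h3 : pairC F m r * pairC F m r * pairC F m r = pairC F m r := by
    rw [hsq]
    ext i j
    rw [Matrix.diagonal_mul]
    simp only [pairC, Matrix.of_apply]
    split_ifs <;> first | omega | simp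
  refine le_antisymm ?_ ?_
  · rw [← hd]
    conv_lhs => rw [← h3]
    exact Matrix.rank_mul_le_left _ _
  · rw [← hd]
    exact Matrix.rank_mul_le_left _ _

/-- Existence of non-alternating orthogonal involutions. -/
theorem exists_not_alt [Finite F] {α δ : Fin m → F} (hα : ∀ i, ∃ d, d + α i + δ i * d ^ 2 = 1) {s : ℕ}
    (hs : s ≤ m) (hs0 : 1 ≤ s) :
    ∃ a : Cfsg.isometryGroup F ⇑(Qd α δ), a * a = 1 ∧ rk (toSp (Qd_polar α δ) a) = s ∧
      ¬ Alt (toSp (Qd_polar α δ) a) := by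
  classical
  choose D hD using hα
  let C : Matrix (Fin m) (Fin m) F := Matrix.diagonal fun i => if (i : ℕ) < s then 1 else 0
  have hC : Cᵀ = C := Matrix.diagonal_transpose _
  obtain ⟨a, h1, h2, h3⟩ := exists_model (α := α) (δ := δ) hC D fun r => by
    rw [dotProduct, ← Finset.sum_add_distrib]
    refine Finset.sum_eq_zero fun i _ => ?_
    rw [hD, one_mul, Matrix.mulVec_diagonal]
    split_ifs
    · rw [one_mul, pow_two, CharTwo.add_self_eq_zero]
    · simp
  refine ⟨a, h1, ?_, fun h => not_alt_uni hC (i := ⟨0, by omega⟩) (by simp [C, show 0 < s by omega]) (h3.1 h)⟩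
  rw [h2, Matrix.rank_diagonal]
  simp only [ne_eq, ite_eq_right_iff, one_ne_zero, imp_false, not_not]
  exact (Fintype.card_congr (β := Fin s) ⟨fun i => ⟨i.1, i.2⟩, fun i => ⟨Fin.castLE hs i, i.isLt⟩,
    fun _ => rfl, fun _ => rfl⟩).trans (Fintype.card_fin _)

/-- Existence of alternating orthogonal involutions. -/
theorem exists_alt [Finite F] {α δ : Fin m → F} {r : ℕ} (hr : 2 * r ≤ m)
    (hα : ∀ i : Fin m, (i : ℕ) < 2 * r → α i = 0) :
    ∃ a : Cfsg.isometryGroup F ⇑(Qd α δ), a * a = 1 ∧ rk (toSp (Qd_polar α δ) a) = 2 * r ∧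
      Alt (toSp (Qd_polar α δ) a) := by
  obtain ⟨a, h1, h2, h3⟩ := exists_model (α := α) (δ := δ) (pairC_symm r) 0 fun x => by
    rw [SympInv.quad_zero _ (pairC_symm r) (pairC_diag r), zero_add]
    refine Finset.sum_eq_zero fun i _ => ?_
    by_cases hi : (i : ℕ) < 2 * r
    · simp [hα i hi]
    · rw [pairC_apply_zero r (not_lt.1 hi)]; simp
  exact ⟨a, h1, h2.trans (pairC_rank hr), h3.2 (alt_uni _ (pairC_diag r))⟩

/-! ### The plus type -/

section plus

variable [Finite F]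

theorem plus_not_alt {s : ℕ} (hs : s ≤ m) (hs0 : 1 ≤ s) :
    ∃ a : Cfsg.isometryGroup F ⇑(Qp m F), a * a = 1 ∧ rk (toSp Qp_polar a) = s ∧
      ¬ Alt (toSp Qp_polar a) := by
  have key : ∀ Q, Qd (0 : Fin m → F) 0 = Q → ∀ hQ : Polar Q,
      ∃ a : Cfsg.isometryGroup F ⇑Q, a * a = 1 ∧ rk (toSp hQ a) = s ∧ ¬ Alt (toSp hQ a) := by
    rintro Q rfl _
    exact exists_not_alt (fun i => ⟨1, by simp⟩) hs hs0
  exact key _ Qd_zero _

theorem plus_alt {r : ℕ} (hr : 2 * r ≤ m) :
    ∃ a : Cfsg.isometryGroup F ⇑(Qp m F), a * a = 1 ∧ rk (toSp Qp_polar a) = 2 * r ∧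
      Alt (toSp Qp_polar a) := by
  have key : ∀ Q, Qd (0 : Fin m → F) 0 = Q → ∀ hQ : Polar Q,
      ∃ a : Cfsg.isometryGroup F ⇑Q, a * a = 1 ∧ rk (toSp hQ a) = 2 * r ∧ Alt (toSp hQ a) := by
    rintro Q rfl _
    exact exists_alt hr fun i _ => rfl
  exact key _ Qd_zero _

variable [Fintype F] (hc : Subgroup.closure (SpinorNorm.Refl (Qp m F)) = ⊤)
include hc

/-- The parity criterion for the top alternating class. -/
theorem mem_Omega_iff_lag {a b g : Cfsg.isometryGroup F ⇑(Qp m F)} (hr : rk (toSp Qp_polar a) = m)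
    (ha : Alt (toSp Qp_polar a)) (hg : g * a * g⁻¹ = b) :
    g ∈ Cfsg.Omega F ⇑(Qp m F) ↔
      Even (m - finrank F ↥(LinearMap.range (N (toSp Qp_polar a)) ⊓ LinearMap.range (N (toSp Qp_polar b)))) := by
  set U := LinearMap.range (N (toSp Qp_polar a))
  have hU : IsLag U := ⟨by rw [← SympInv.rk_eq, hr], by
    rintro _ ⟨x, rfl⟩
    rw [← Qp_apply]
    exact (alt_iff_Q Qp_polar a).1 ha x⟩
  obtain ⟨vs, hvs, hgm⟩ := OmegaList.exists_list (Qp m F) hc g
  rw [OmegaList.omega_iff_list (Qp m F) hc (nondeg Qp_polar) g vs hvs hgm,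
    and_iff_left (FiniteField.isSquare_of_char_two (ringChar.eq F 2) _), ← OmegaLag.class_parity hU vs hvs]
  suffices h : U.map (Matrix.mulVecLin (OmegaList.RP (Qp m F) vs)) = LinearMap.range (N (toSp Qp_polar b)) by
    rw [h]
  rw [← hgm]
  rw [mul_inv_eq_iff_eq_mul] at hg
  have h : ∀ x, N (toSp Qp_polar b) (g.1.1 *ᵥ x) = g.1.1 *ᵥ N (toSp Qp_polar a) x := fun x => by
    have e : ∀ k : Cfsg.isometryGroup F ⇑(Qp m F), ∀ y, N (toSp Qp_polar k) y = k.1.1 *ᵥ y + y :=
      fun k y => N_apply _ y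
    rw [e, e, Matrix.mulVec_add, Matrix.mulVec_mulVec, Matrix.mulVec_mulVec,
      show g.1.1 * a.1.1 = b.1.1 * g.1.1 from congrArg (fun k : Cfsg.isometryGroup F ⇑(Qp m F) => k.1.1) hg]
  ext y
  constructor
  · rintro ⟨_, ⟨x, rfl⟩, rfl⟩
    exact ⟨g.1.1 *ᵥ x, h x⟩
  · rintro ⟨z, rfl⟩
    obtain ⟨x, rfl⟩ := Matrix.mulVec_surjective_iff_isUnit.2 ⟨g.1, rfl⟩ z
    exact ⟨_, ⟨x, rfl⟩, (h x).symm⟩

/-- The top alternating centraliser lies in `Ω`. -/
theorem centralizer_le_Omega {a g : Cfsg.isometryGroup F ⇑(Qp m F)} (hr : rk (toSp Qp_polar a) = m)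
    (ha : Alt (toSp Qp_polar a)) (hg : g * a = a * g) : g ∈ Cfsg.Omega F ⇑(Qp m F) := by
  rw [mem_Omega_iff_lag hc hr ha (b := a) (mul_inv_eq_iff_eq_mul.2 hg), inf_idem, ← SympInv.rk_eq, hr, Nat.sub_self]
  simp

omit hc [Fintype F] in
/-- The admissible shifts of an alternating involution. -/
theorem card_shift_alt {a : Cfsg.isometryGroup F ⇑(Qp m F)} (ha : a * a = 1) (h : Alt (toSp Qp_polar a)) :
    2 * Nat.card {w : Fin m ⊕ Fin m → F // (toSp Qp_polar a).1 *ᵥ w = w ∧ P2 (Qp m F w)} =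
      (Nat.card F ^ (m - rk (toSp Qp_polar a)) + 1) * Nat.card F ^ m := by
  classical
  obtain ⟨r, hr⟩ : ∃ r, rk (toSp Qp_polar a) = r + r := by
    obtain ⟨r, hr, -⟩ := SympInv.rk_alt (toSp_sq Qp_polar ha) h
    exact ⟨r, hr⟩
  have hle := SympInv.rk_le (toSp_sq Qp_polar ha)
  set C := pairC F m r
  have hu : ∀ x, Qp m F ((uni C (pairC_symm r)).1 *ᵥ x) = Qp m F x := fun x => by
    simp only [Qp_apply, Cfsg.quadFormPlus, uni_apply_l, uni_apply_r, add_mul, Finset.sum_add_distrib]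
    rw [show ∑ i, (C *ᵥ fun j => x (Sum.inr j)) i * x (Sum.inr i) = 0 from
      (dotProduct_comm _ _).trans (SympInv.quad_zero C (pairC_symm r) (pairC_diag r) _), add_zero]
  set b : Cfsg.isometryGroup F ⇑(Qp m F) := ofSp (uni C (pairC_symm r)) hu
  have hb : b * b = 1 := toSp_injective Qp_polar (by rw [map_mul, map_one, toSp_ofSp, uni_sq])
  have hconj : IsConj a b := (isConj_iff Qp_polar ha hb).2 ⟨by
    rw [toSp_ofSp, rk_uni, pairC_rank (by omega), hr, two_mul], by
    rw [toSp_ofSp]; exact iff_of_true h (alt_uni _ (pairC_diag r))⟩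
  have hWW : Nat.card {w : Fin m ⊕ Fin m → F // (toSp Qp_polar a).1 *ᵥ w = w ∧ P2 (Qp m F w)} =
      Nat.card {w : Fin m ⊕ Fin m → F // (toSp Qp_polar b).1 *ᵥ w = w ∧ P2 (Qp m F w)} := by
    obtain ⟨g, hg⟩ := _root_.isConj_iff.1 hconj
    rw [mul_inv_eq_iff_eq_mul] at hg
    set G := toSp Qp_polar g
    have hG : ∀ x, (G⁻¹).1 *ᵥ (G.1 *ᵥ x) = x := fun x => by
      rw [← SympGen.mul_apply, inv_mul_cancel, SympGen.one_apply]
    let e : (Fin m ⊕ Fin m → F) ≃ (Fin m ⊕ Fin m → F) :=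
      { toFun := fun x => G.1 *ᵥ x
        invFun := fun x => (G⁻¹).1 *ᵥ x
        left_inv := hG
        right_inv := fun x => by
          show G.1 *ᵥ ((G⁻¹).1 *ᵥ x) = x
          rw [← SympGen.mul_apply, mul_inv_cancel, SympGen.one_apply] }
    refine Nat.card_congr (Equiv.subtypeEquiv e fun w => ?_)
    show _ ↔ (toSp Qp_polar b).1 *ᵥ (G.1 *ᵥ w) = G.1 *ᵥ w ∧ P2 (Qp m F (G.1 *ᵥ w))
    rw [toSp_Q, ← SympGen.mul_apply, ← map_mul, ← hg, map_mul, SympGen.mul_apply]
    exact and_congr_left' (Matrix.mulVec_injective_of_isUnit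
      ⟨g.1, rfl⟩).eq_iff.symm
  rw [hWW, toSp_ofSp]
  obtain ⟨e, he⟩ := exists_not_P2 (F := F)
  let R := LinearMap.ker C.mulVecLin
  have hR : Nat.card R = Nat.card F ^ (m - rk (toSp Qp_polar a)) := by
    rw [Module.natCard_eq_pow_finrank (K := F) (V := R)]
    congr 1
    have h1 := LinearMap.finrank_range_add_finrank_ker C.mulVecLin
    have h2 : finrank F (LinearMap.range C.mulVecLin) = 2 * r := pairC_rank (by omega)
    simp only [Module.finrank_fintype_fun_eq_card, Fintype.card_fin] at h1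
    show finrank F (LinearMap.ker C.mulVecLin) = _
    omega
  let eq1 : {w : Fin m ⊕ Fin m → F // (uni C (pairC_symm r)).1 *ᵥ w = w ∧ P2 (Qp m F w)} ≃
      Σ x : R, {l : Fin m → F // P2 (l ⬝ᵥ x.1)} :=
    { toFun := fun w => ⟨⟨fun j => w.1 (Sum.inr j), by
          rw [LinearMap.mem_ker, Matrix.mulVecLin_apply]
          funext i
          have := congrFun w.2.1 (Sum.inl i)
          rwa [uni_apply_l, add_eq_left] at this⟩, ⟨fun j => w.1 (Sum.inl j), by
          have := w.2.2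
          rwa [Qp_apply] at this⟩⟩
      invFun := fun p => ⟨Sum.elim p.2.1 p.1.1, by
          funext i
          rcases i with i | i
          · rw [uni_apply_l, add_eq_left]
            exact congrFun p.1.2 i
          · rw [uni_apply_r], by
          rw [Qp_apply]; exact p.2.2⟩
      left_inv := fun w => Subtype.ext (funext fun i => by rcases i with i | i <;> rfl)
      right_inv := fun p => rfl }
  haveI : Fintype F := Fintype.ofFinite F
  haveI : Fintype R := Fintype.ofFinite R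
  rw [Nat.card_congr eq1, Nat.card_sigma, Finset.mul_sum]
  have hvec : Nat.card (Fin m → F) = Nat.card F ^ m := by rw [Nat.card_fun, Nat.card_fin]
  have h0 : ∀ x : R, x ≠ 0 → 2 * Nat.card {l : Fin m → F // P2 (l ⬝ᵥ x.1)} = Nat.card F ^ m := by
    intro x hx
    obtain ⟨i, hi⟩ := Function.ne_iff.1 (fun h => hx (Subtype.ext h) : x.1 ≠ 0)
    set l₀ : Fin m → F := Pi.single i (e / x.1 i)
    have hl : l₀ ⬝ᵥ x.1 = e := by rw [single_dotProduct, div_mul_cancel₀ _ hi]
    have e2 : Nat.card {l : Fin m → F // ¬ P2 (l ⬝ᵥ x.1)} = Nat.card {l : Fin m → F // P2 (l ⬝ᵥ x.1)} := by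
      refine (Nat.card_congr (Equiv.subtypeEquiv (Equiv.addRight l₀) fun l => ?_)).symm
      show P2 _ ↔ ¬ P2 ((l + l₀) ⬝ᵥ x.1)
      rw [add_dotProduct, hl, P2_add_iff]
      tauto
    rw [← hvec, ← Nat.card_congr (Equiv.sumCompl fun l : Fin m → F => P2 (l ⬝ᵥ x.1)), Nat.card_sum, e2, two_mul]
  rw [← Finset.add_sum_erase _ _ (Finset.mem_univ (0 : R)),
    Finset.sum_congr rfl fun x hx => h0 x (Finset.ne_of_mem_erase hx),
    Finset.sum_const, Finset.card_erase_of_mem (Finset.mem_univ _), Finset.card_univ,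
    ← Nat.card_eq_fintype_card, smul_eq_mul]
  have hz : Nat.card {l : Fin m → F // P2 (l ⬝ᵥ (0 : R).1)} = Nat.card F ^ m := by
    rw [← hvec]
    refine Nat.card_congr (Equiv.subtypeUnivEquiv fun l => ?_)
    simp [P2_zero]
  rw [hz, hR]
  obtain ⟨k, hk⟩ := Nat.exists_eq_add_of_le (Nat.one_le_pow (m - rk (toSp Qp_polar a)) (Nat.card F) Nat.card_pos)
  rw [hk, Nat.add_sub_cancel_left]
  ring

end plus

/-! ### The minus type -/

section minus

variable {k : ℕ} {a b : F}

/-- The parameters of the minus form. -/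
def lastVec (k : ℕ) (c : F) : Fin (k + 1) → F := Pi.single (Fin.last k) c

/-- Coordinates of the minus form. -/
def minusT (ha : a ≠ 0) : ((Fin k ⊕ Fin k) ⊕ Fin 2 → F) ≃ₗ[F] (Fin (k + 1) ⊕ Fin (k + 1) → F) where
  toFun x := Sum.elim (Fin.snoc (fun i => x (.inl (.inl i))) (x (.inr 0)))
    (Fin.snoc (fun i => x (.inl (.inr i))) (a * x (.inr 1)))
  map_add' x y := by
    funext s
    rcases s with s | s <;> cases s using Fin.lastCases <;> simp [mul_add]
  map_smul' c x := by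
    funext s
    rcases s with s | s <;> cases s using Fin.lastCases <;> simp [mul_left_comm]
  invFun y := Sum.elim (Sum.elim (fun i => y (.inl i.castSucc)) fun i => y (.inr i.castSucc))
    ![y (.inl (Fin.last k)), a⁻¹ * y (.inr (Fin.last k))]
  left_inv x := by
    funext s
    rcases s with (s | s) | s
    · simp
    · simp
    · fin_cases s <;> simp [ha]
  right_inv y := by
    funext s
    rcases s with s | s <;> cases s using Fin.lastCases <;> simp [ha]

theorem minusT_form (ha : a ≠ 0) (x : (Fin k ⊕ Fin k) ⊕ Fin 2 → F) :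
    Qd (lastVec k 1) (lastVec k (b / a ^ 2)) (minusT ha x) = Cfsg.quadFormMinus k F a b x := by
  rw [Qd_apply, Fin.sum_univ_castSucc]
  simp only [minusT, LinearEquiv.coe_mk, LinearMap.coe_mk, AddHom.coe_mk, Sum.elim_inl, Sum.elim_inr,
    Fin.snoc_castSucc, Fin.snoc_last, lastVec, Pi.single_eq_same,
    Pi.single_eq_of_ne (Fin.castSucc_lt_last _).ne, zero_mul, add_zero, Cfsg.quadFormMinus]
  field_simp
  ring

theorem minus_not_alt [Finite F] {s : ℕ} (hs : s ≤ k + 1) (hs0 : 1 ≤ s) (d : F) :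
    ∃ g : Cfsg.isometryGroup F ⇑(Qd (lastVec k 1) (lastVec k d)), g * g = 1 ∧
      rk (toSp (Qd_polar _ _) g) = s ∧ ¬ Alt (toSp (Qd_polar _ _) g) := by
  refine exists_not_alt (fun i => ?_) hs hs0
  cases i using Fin.lastCases with
  | last => exact ⟨0, by simp [lastVec]⟩
  | cast i => exact ⟨1, by simp [lastVec, (Fin.castSucc_lt_last i).ne]⟩

theorem minus_alt [Finite F] {r : ℕ} (hr : 2 * r ≤ k) (d : F) :
    ∃ g : Cfsg.isometryGroup F ⇑(Qd (lastVec k 1) (lastVec k d)), g * g = 1 ∧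
      rk (toSp (Qd_polar _ _) g) = 2 * r ∧ Alt (toSp (Qd_polar _ _) g) := by
  refine exists_alt (by omega) fun i hi => ?_
  rw [lastVec, Pi.single_apply, if_neg]
  rintro rfl
  simp at hi
  omega

/-- No alternating involution of full rank in the minus type. -/
theorem minus_not_top [Finite F] (hab : ∀ z₁ z₂ : F, z₁ ^ 2 + a * z₁ * z₂ + b * z₂ ^ 2 = 0 → z₁ = 0 ∧ z₂ = 0)
    (ha : a ≠ 0) (g : Cfsg.isometryGroup F ⇑(Qd (lastVec k 1) (lastVec k (b / a ^ 2)))) :
    ¬ (rk (toSp (Qd_polar _ _) g) = k + 1 ∧ Alt (toSp (Qd_polar _ _) g)) := by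
  rintro ⟨hr, halt⟩
  have h := FiniteForms.minus_totally_singular_le hab
    ((LinearMap.range (N (toSp (Qd_polar _ _) g))).map ((minusT (k := k) ha).symm.toLinearMap)) (by
      rintro _ ⟨_, ⟨x, rfl⟩, rfl⟩
      show Cfsg.quadFormMinus k F a b ((minusT ha).symm _) = 0
      rw [← minusT_form ha, LinearEquiv.apply_symm_apply]
      exact (alt_iff_Q (Qd_polar _ _) g).1 halt x)
  rw [LinearEquiv.finrank_map_eq, ← SympInv.rk_eq, hr] at h
  omega

end minus

end CfsgLib.SympOrth
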