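/-
Reflections generate the orthogonal group when no totally singular plane exists.
-/
import Cfsg.Agent.Lib.SpinorNorm

set_option autoImplicit false
set_option linter.unusedSectionVars false
set_option linter.dupNamespace false

namespace CfsgLib.ReflectionGenLine

open QuadraticMap CfsgLib.WittExtension CfsgLib.ReflectionGen

variable {F V : Type*} [Field F] [AddCommGroup V] [Module F V] (Q : QuadraticForm F V) [FiniteDimensional F V]

theorem siegel_mem_line (hP : ∀ d w : V, d ≠ 0 → Q d = 0 → polar Q d w = 0 → Q w = 0 → w ∈ F ∙ d)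
    {d w : V} (hd0 : d ≠ 0) (hd : Q d = 0) (hdw : polar Q d w = 0) :
    ∃ g ∈ Subgroup.closure (reflSet Q), ∀ u,
      g u = u + (polar Q d u • w + (-(polar Q w u) - Q w * polar Q d u) • d) := by
  by_cases hw : Q w ≠ 0
  · exact siegel_mem_of_ne Q hd hdw hw
  push Not at hw
  obtain ⟨c, rfl⟩ := Submodule.mem_span_singleton.mp (hP d w hd0 hd hdw hw)
  refine ⟨1, one_mem _, fun u => ?_⟩
  rw [QuadraticMap.map_smul, hd, polar_smul_left]
  simp only [smul_eq_mul, mul_zero, zero_mul, sub_zero, LinearEquiv.coe_one, id_eq]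
  module

theorem move (hQ : (polarBilin Q).Nondegenerate)
    (hP : ∀ d w : V, d ≠ 0 → Q d = 0 → polar Q d w = 0 → Q w = 0 → w ∈ F ∙ d) (X : Submodule F V) {x y : V}
    (hx : x ∉ X) (hy : y ∉ X) (hq : Q x = Q y) (hxy : ∀ z ∈ X, polar Q z x = polar Q z y) :
    ∃ g ∈ Subgroup.closure (reflSet Q), (∀ z ∈ X, g z = z) ∧ g x = y := by
  set B := polarBilin Q with hB
  have hB' : ∀ u v, B u v = polar Q u v := fun u v => rfl
  have hsurj : Function.Surjective B :=
    (LinearMap.injective_iff_surjective_of_finrank_eq_finrank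
      Subspace.dual_finrank_eq.symm).mp
      (LinearMap.ker_eq_bot.mp (LinearMap.separatingLeft_iff_ker_eq_bot.mp hQ.1))
  have hrefl : ∀ u v, B u v = 0 → B v u = 0 := fun u v h => by
    rw [hB', polar_comm, ← hB', h]
  obtain ⟨d, rfl⟩ : ∃ d, y = x + d := ⟨y - x, by abel⟩
  have hdX : ∀ z ∈ X, polar Q d z = 0 := fun z hz => by
    have h : polar Q z x = polar Q z (x + d) := hxy z hz
    rw [polar_add_right] at h
    rw [polar_comm]
    linear_combination -h
  have hd : Q d + polar Q d x = 0 := by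
    have := QuadraticMap.map_add Q x d
    rw [polar_comm Q x d] at this
    linear_combination -hq - this
  by_cases hd0 : d = 0
  · exact ⟨1, one_mem _, fun _ _ => rfl, by rw [hd0, add_zero]; rfl⟩
  by_cases hQd : Q d ≠ 0
  · obtain ⟨g, hg, hgu⟩ := exists_refl Q hQd
    refine ⟨g, Subgroup.subset_closure hg, fun z hz => ?_, ?_⟩
    · simp [hgu, hdX z hz]
    · rw [hgu, eq_neg_of_add_eq_zero_right hd]
      simp [hQd]
  push Not at hQd
  have hxd : polar Q d x = 0 := by simpa [hQd] using hd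
  have hdd : polar Q d d = 0 := by rw [pol_self, hQd, mul_zero]
  by_cases hex : ∃ w, (∀ s ∈ X ⊔ F ∙ d, B w s = 0) ∧ B w x ≠ 0
  · obtain ⟨w₀, hw₀, hw₀x⟩ := hex
    simp only [hB'] at hw₀ hw₀x
    set w := (-(polar Q w₀ x)⁻¹) • w₀ with hw
    have hwX : ∀ z ∈ X, polar Q w z = 0 := fun z hz => by
      simp [hw, polar_smul_left, hw₀ z (Submodule.mem_sup_left hz)]
    have hdw : polar Q d w = 0 := by
      rw [polar_comm, hw, polar_smul_left,
        hw₀ d (Submodule.mem_sup_right (Submodule.mem_span_singleton_self d)), smul_zero]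
    have hwx : polar Q w x = -1 := by simp [hw, polar_smul_left, hw₀x]
    obtain ⟨g, hg, hgu⟩ := siegel_mem_line Q hP hd0 hQd hdw
    refine ⟨g, hg, fun z hz => ?_, ?_⟩
    · simp [hgu, hwX z hz, hdX z hz]
    · simp [hgu, hxd, hwx]
  · push Not at hex
    have hxS := mem_of_annihilator B hsurj hrefl _ x hex
    obtain ⟨z₀, hz₀, b, hb, rfl⟩ := Submodule.mem_sup.mp hxS
    obtain ⟨c, rfl⟩ := Submodule.mem_span_singleton.mp hb
    have hc : c ≠ 0 := fun h => hx (by simpa [h] using hz₀)
    have hc1 : c + 1 ≠ 0 := fun h => hy (by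
      have : z₀ + c • d + d = z₀ := by
        rw [add_assoc, show c • d + d = (c + 1) • d by rw [add_smul, one_smul], h, zero_smul,
          add_zero]
      simpa [this] using hz₀)
    have hdnot : d ∉ X := fun h => hx (X.add_mem hz₀ (X.smul_mem c h))
    obtain ⟨f₀, hf₀, hf₀d⟩ : ∃ f₀, (∀ s ∈ X, B f₀ s = 0) ∧ B f₀ d ≠ 0 := by
      by_contra hh
      push Not at hh
      exact hdnot (mem_of_annihilator B hsurj hrefl _ d hh)
    simp only [hB'] at hf₀ hf₀d
    set e := (polar Q f₀ d)⁻¹ • f₀ with he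
    have hed : polar Q e d = 1 := by simp [he, polar_smul_left, hf₀d]
    have heX : ∀ z ∈ X, polar Q e z = 0 := fun z hz => by simp [he, polar_smul_left, hf₀ z hz]
    clear_value e
    set p := e + (-(Q e)) • d with hp
    have hdp : polar Q d p = 1 := by
      simp [hp, polar_add_right, polar_smul_right, polar_comm Q d e, hed, hdd]
    have hQp : Q p = 0 := by
      rw [hp, QuadraticMap.map_add Q, QuadraticMap.map_smul, hQd, polar_smul_right, hed]
      simp
    have hpX : ∀ z ∈ X, polar Q p z = 0 := fun z hz => by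
      simp [hp, polar_add_left, polar_smul_left, heX z hz, hdX z hz]
    obtain ⟨g, hg, hgu⟩ := scale_mem Q hQd hQp hdp (l := (c + 1) / c) (div_ne_zero hc1 hc)
    refine ⟨g, hg, fun z hz => ?_, ?_⟩
    · simp [hgu, hpX z hz, hdX z hz]
    · rw [hgu, polar_add_right, polar_smul_right, polar_add_right, polar_smul_right,
        hpX z₀ hz₀, hdX z₀ hz₀, polar_comm Q p d, hdp, hdd]
      simp only [smul_eq_mul]
      match_scalars <;> field_simp <;> ring

/-- Every isometry is a product of reflections. -/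
theorem isometry_mem (hQ : (polarBilin Q).Nondegenerate)
    (hP : ∀ d w : V, d ≠ 0 → Q d = 0 → polar Q d w = 0 → Q w = 0 → w ∈ F ∙ d) (f : V ≃ₗ[F] V)
    (hf : ∀ v, Q (f v) = Q v) : f ∈ Subgroup.closure (reflSet Q) := by
  obtain ⟨g, hg, hgX⟩ := extend_of_move (Subgroup.closure (reflSet Q))
    (fun X φ => Function.Injective φ ∧ ∀ x : X, Q (φ x) = Q (x : V)) (fun _ _ h => h.1)
    (fun X X' h φ hφ => ⟨hφ.1.comp (Submodule.inclusion_injective h), fun x => hφ.2 _⟩)
    (fun X φ hφ g hg => ⟨g.injective.comp hφ.1, fun x => by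
      have hg' : ∀ v, Q (g v) = Q v := closure_le Q hg
      show Q (g (φ x)) = _; rw [hg', hφ.2]⟩)
    (by
      intro X φ hφ X' hle hfix x hx hy
      refine move Q hQ hP X' hx hy (hφ.2 x).symm fun z hz => ?_
      have h := hφ.2 (⟨z, hle hz⟩ + x)
      simp only [_root_.map_add, hfix ⟨z, hle hz⟩ hz, Submodule.coe_add] at h
      simp only [QuadraticMap.polar, h, hφ.2 x])
    ⊤ (f.toLinearMap.comp (Submodule.subtype ⊤))
    ⟨f.injective.comp Subtype.val_injective, fun x => hf _⟩
  have : g = f := LinearEquiv.ext fun v => hgX ⟨v, trivial⟩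
  exact this ▸ hg

theorem closure_refl (hQ : (polarBilin Q).Nondegenerate)
    (hP : ∀ d w : V, d ≠ 0 → Q d = 0 → polar Q d w = 0 → Q w = 0 → w ∈ F ∙ d) :
    Subgroup.closure (SpinorNorm.Refl Q) = ⊤ := by
  rw [eq_top_iff]
  intro g _
  have hle : Subgroup.closure (reflSet Q) ≤
      (Subgroup.closure (SpinorNorm.Refl Q)).map (quadIso Q).subtype := by
    rw [Subgroup.closure_le]
    rintro r ⟨v, hv, hr⟩
    exact ⟨SpinorNorm.refl Q hv, Subgroup.subset_closure ⟨v, hv, rfl⟩,
      LinearEquiv.ext fun u => (SpinorNorm.refl_apply Q hv u).trans (hr u).symm⟩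
  obtain ⟨g', hg', he⟩ := hle (isometry_mem Q hQ hP g.1 g.2)
  exact (Subtype.ext he : g' = g) ▸ hg'

end CfsgLib.ReflectionGenLine
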