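/-
Counting involution classes and centralisers in orthogonal groups in characteristic two.
-/
import Cfsg.Agent.Lib.SympInvolution.OrthModels
import Cfsg.Agent.Lib.SympInvolution.ReflLine
import Cfsg.Agent.S0245

set_option autoImplicit false
set_option linter.unusedSectionVars false
set_option linter.dupNamespace false

namespace CfsgLib.SympOrth

open Matrix QuadraticMap Module
open CfsgLib.SympGen (B B_map)
open CfsgLib.SympInv (N rk Alt)
open CfsgLib.Lagrangian (Qp Qp_apply)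

/-! ### Generalities -/

theorem card_classes_of_reps {G : Type*} [Group G] {L : Type*} (rep : L → G) (P : G → Prop)
    (hP : ∀ l, P (rep l)) (hsurj : ∀ g, P g → ∃ l, IsConj (rep l) g)
    (hinj : ∀ l l', IsConj (rep l) (rep l') → l = l') :
    Nat.card {C : ConjClasses G // ∃ g, ConjClasses.mk g = C ∧ P g} = Nat.card L := by
  refine (Nat.card_eq_of_bijective (fun l => (⟨ConjClasses.mk (rep l), rep l, rfl, hP l⟩ :
    {C : ConjClasses G // ∃ g, ConjClasses.mk g = C ∧ P g}))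
    ⟨fun l l' h => hinj l l' (ConjClasses.mk_eq_mk_iff_isConj.1 (congrArg Subtype.val h)), fun C => ?_⟩).symm
  obtain ⟨C, g, rfl, hg⟩ := C
  obtain ⟨l, hl⟩ := hsurj g hg
  exact ⟨l, Subtype.ext (ConjClasses.mk_eq_mk_iff_isConj.2 hl)⟩

theorem card_classes_congr {G H : Type*} [Group G] [Group H] (e : G ≃* H) :
    Nat.card {C : ConjClasses G // ∃ g, ConjClasses.mk g = C ∧ orderOf g = 2} =
      Nat.card {C : ConjClasses H // ∃ g, ConjClasses.mk g = C ∧ orderOf g = 2} := by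
  let E : ConjClasses G ≃ ConjClasses H :=
    { toFun := ConjClasses.map e.toMonoidHom
      invFun := ConjClasses.map e.symm.toMonoidHom
      left_inv := fun C => by
        obtain ⟨g, rfl⟩ := ConjClasses.mk_surjective C
        exact congrArg ConjClasses.mk (e.symm_apply_apply g)
      right_inv := fun C => by
        obtain ⟨g, rfl⟩ := ConjClasses.mk_surjective C
        exact congrArg ConjClasses.mk (e.apply_symm_apply g) }
  refine Nat.card_congr (Equiv.subtypeEquiv E fun C => ?_)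
  constructor
  · rintro ⟨g, rfl, hg⟩
    exact ⟨e g, rfl, by rw [MulEquiv.orderOf_eq, hg]⟩
  · rintro ⟨h, hh, hg⟩
    refine ⟨e.symm h, E.injective ?_, by rw [MulEquiv.orderOf_eq, hg]⟩
    rw [← hh]
    exact congrArg ConjClasses.mk (e.apply_symm_apply h)

variable {F : Type*} [Field F] [CharP F 2] {m : ℕ}

local notation "Vec" => (Fin m ⊕ Fin m → F)

section classes

variable {Q : QuadraticForm F (Fin m ⊕ Fin m → F)} (hQ : Polar Q) [Finite F]
include hQ

theorem rk_one' : rk (toSp hQ (1 : Cfsg.isometryGroup F ⇑Q)) = 0 := by rw [map_one, SympInv.rk_one]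

theorem invol_iff (g : Cfsg.isometryGroup F ⇑Q) : orderOf g = 2 ↔ g * g = 1 ∧ rk (toSp hQ g) ≠ 0 := by
  constructor
  · intro h
    refine ⟨by rw [← pow_two, ← h, pow_orderOf_eq_one], fun h0 => ?_⟩
    have : g = 1 := toSp_injective hQ (by rw [SympInv.eq_one_of_rk h0, map_one])
    rw [this, orderOf_one] at h
    omega
  · rintro ⟨h1, h2⟩
    refine orderOf_eq_prime (by rw [pow_two, h1]) fun h => h2 ?_
    rw [h, rk_one' hQ]

theorem invol_Omega_iff (g : ↥(Cfsg.Omega F ⇑Q)) : orderOf g = 2 ↔ g.1 * g.1 = 1 ∧ rk (toSp hQ g.1) ≠ 0 := by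
  rw [← Subgroup.orderOf_coe, invol_iff hQ]

theorem isConj_of_Omega {a b : ↥(Cfsg.Omega F ⇑Q)} (h : IsConj a b) : IsConj a.1 b.1 :=
  (Cfsg.Omega F ⇑Q).subtype.map_isConj h

variable {M : ℕ} (hna : ∀ s, 1 ≤ s → s ≤ m → ∃ a : Cfsg.isometryGroup F ⇑Q,
    a * a = 1 ∧ rk (toSp hQ a) = s ∧ ¬ Alt (toSp hQ a))
  (hal : ∀ r, 2 * r ≤ M → ∃ a : Cfsg.isometryGroup F ⇑Q, a * a = 1 ∧ rk (toSp hQ a) = 2 * r ∧ Alt (toSp hQ a))
  (hbd : ∀ a : Cfsg.isometryGroup F ⇑Q, a * a = 1 → Alt (toSp hQ a) → rk (toSp hQ a) ≤ M)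
  (hMm : M ≤ m)
include hna hal hbd

/-- The number of involution classes of the orthogonal group. -/
theorem card_invol_classes :
    Nat.card {C : ConjClasses ↥(Cfsg.isometryGroup F ⇑Q) //
      ∃ g, ConjClasses.mk g = C ∧ orderOf g = 2} = m + M / 2 := by
  have h1 : ∀ k : Fin m, ∃ a : Cfsg.isometryGroup F ⇑Q, a * a = 1 ∧ rk (toSp hQ a) = k.val + 1 ∧
      ¬ Alt (toSp hQ a) := fun k => hna _ (by omega) (by omega)
  have h2 : ∀ k : Fin (M / 2), ∃ a : Cfsg.isometryGroup F ⇑Q, a * a = 1 ∧ rk (toSp hQ a) = 2 * (k.val + 1) ∧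
      Alt (toSp hQ a) := fun k => hal _ (by omega)
  choose d hd1 hd2 hd3 using h1
  choose e he1 he2 he3 using h2
  rw [card_classes_of_reps (Sum.elim d e) (fun g => orderOf g = 2)]
  · simp
  · rintro (k | k) <;> simp [invol_iff hQ, hd1, hd2, he1, he2]
  · intro g hg
    obtain ⟨hgg, hne⟩ := (invol_iff hQ g).1 hg
    by_cases ha : Alt (toSp hQ g)
    · obtain ⟨j, hj, -⟩ := SympInv.rk_alt (toSp_sq hQ hgg) ha
      have := hbd g hgg ha
      refine ⟨Sum.inr ⟨j - 1, by omega⟩, (isConj_iff hQ (he1 _) hgg).2 ⟨?_, iff_of_true (he3 _) ha⟩⟩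
      simp only [Sum.elim_inr, he2]; omega
    · have := SympInv.rk_le (toSp_sq hQ hgg)
      refine ⟨Sum.inl ⟨rk (toSp hQ g) - 1, by omega⟩,
        (isConj_iff hQ (hd1 _) hgg).2 ⟨?_, iff_of_false (hd3 _) ha⟩⟩
      simp only [Sum.elim_inl, hd2]; omega
  · rintro (k | k) (k' | k') h <;> simp only [Sum.elim_inl, Sum.elim_inr] at h
    · obtain ⟨h1, -⟩ := (isConj_iff hQ (hd1 k) (hd1 k')).1 h
      rw [hd2, hd2] at h1
      exact congrArg Sum.inl (Fin.ext (by omega))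
    · exact absurd (((isConj_iff hQ (hd1 k) (he1 k')).1 h).2.2 (he3 k')) (hd3 k)
    · exact absurd (((isConj_iff hQ (he1 k) (hd1 k')).1 h).2.1 (he3 k)) (hd3 k')
    · obtain ⟨h1, -⟩ := (isConj_iff hQ (he1 k) (he1 k')).1 h
      rw [he2, he2] at h1
      exact congrArg Sum.inr (Fin.ext (by omega))

variable [Fintype F] (hc : Subgroup.closure (SpinorNorm.Refl Q) = ⊤)
include hc hMm

/-- The number of involution classes of `Ω`: the twin classes are the top alternating classes. -/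
theorem card_Omega_classes {T : Type} (twin : T → ↥(Cfsg.Omega F ⇑Q))
    (ht1 : ∀ u, (twin u).1 * (twin u).1 = 1) (ht2 : ∀ u, rk (toSp hQ (twin u).1) = m)
    (ht3 : ∀ u, Alt (toSp hQ (twin u).1)) (ht4 : Subsingleton T)
    (htwin : ∀ u, ∀ a : ↥(Cfsg.Omega F ⇑Q), a.1 * a.1 = 1 → rk (toSp hQ a.1) = m → Alt (toSp hQ a.1) →
      ∃ b : ↥(Cfsg.Omega F ⇑Q), b.1 * b.1 = 1 ∧ rk (toSp hQ b.1) = m ∧ Alt (toSp hQ b.1) ∧ ¬ IsConj (twin u) b ∧
        (IsConj (twin u) a ∨ IsConj b a))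
    (hT : ∀ a : ↥(Cfsg.Omega F ⇑Q), a.1 * a.1 = 1 → rk (toSp hQ a.1) = m → Alt (toSp hQ a.1) → 1 ≤ m →
      Nonempty T) :
    Nat.card {C : ConjClasses ↥(Cfsg.Omega F ⇑Q) // ∃ g, ConjClasses.mk g = C ∧ orderOf g = 2} =
      m / 2 + M / 2 + Nat.card T := by
  classical
  have h1 : ∀ k : Fin (m / 2), ∃ a : ↥(Cfsg.Omega F ⇑Q), a.1 * a.1 = 1 ∧
      rk (toSp hQ a.1) = 2 * (k.val + 1) ∧ ¬ Alt (toSp hQ a.1) := fun k => by
    obtain ⟨a, h1, h2, h3⟩ := hna (2 * (k.val + 1)) (by omega) (by omega)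
    exact ⟨⟨a, (mem_Omega_iff hQ hc a).2 (h2 ▸ even_two_mul _)⟩, h1, h2, h3⟩
  have h2 : ∀ k : Fin (M / 2), ∃ a : ↥(Cfsg.Omega F ⇑Q), a.1 * a.1 = 1 ∧
      rk (toSp hQ a.1) = 2 * (k.val + 1) ∧ Alt (toSp hQ a.1) ∧ ∀ u, ¬ IsConj (twin u) a := fun k => by
    obtain ⟨a, h1, h2, h3⟩ := hal (k.val + 1) (by omega)
    let a' : ↥(Cfsg.Omega F ⇑Q) := ⟨a, (mem_Omega_iff hQ hc a).2 (h2 ▸ even_two_mul _)⟩
    by_cases hT' : Nonempty T ∧ 2 * (k.val + 1) = m
    · obtain ⟨⟨u⟩, hk⟩ := hT'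
      obtain ⟨b, hb1, hb2, hb3, hb4, -⟩ := htwin u a' h1 (h2.trans hk) h3
      exact ⟨b, hb1, hb2.trans hk.symm, hb3, fun v => ht4.elim u v ▸ hb4⟩
    · refine ⟨a', h1, h2, h3, fun u hu => hT' ⟨⟨u⟩, ?_⟩⟩
      have := ((isConj_iff hQ (ht1 u) h1).1 (isConj_of_Omega hQ hu)).1
      rw [ht2 u, h2] at this
      omega
  choose d hd1 hd2 hd3 using h1
  choose e he1 he2 he3 he4 using h2
  let rep : (Fin (m / 2) ⊕ Fin (M / 2)) ⊕ T → ↥(Cfsg.Omega F ⇑Q) := Sum.elim (Sum.elim d e) twin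
  have hconj : ∀ a b : ↥(Cfsg.Omega F ⇑Q), a.1 * a.1 = 1 → b.1 * b.1 = 1 →
      rk (toSp hQ a.1) = rk (toSp hQ b.1) → (Alt (toSp hQ a.1) ↔ Alt (toSp hQ b.1)) →
      ¬ (rk (toSp hQ a.1) = m ∧ Alt (toSp hQ a.1)) → IsConj a b := by
    intro a b ha hb hr halt hnt
    obtain ⟨g, hg, hgab⟩ := exists_conj_Omega hQ hc ha hnt ((isConj_iff hQ ha hb).2 ⟨hr, halt⟩)
    exact _root_.isConj_iff.2 ⟨⟨g, hg⟩, Subtype.ext hgab⟩
  rw [card_classes_of_reps rep (fun g => orderOf g = 2)]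
  · haveI : Finite T := Finite.of_subsingleton
    simp
  · rintro ((k | k) | u)
    · exact (invol_Omega_iff hQ _).2 ⟨hd1 k, by show rk (toSp hQ (d k).1) ≠ 0; rw [hd2]; omega⟩
    · exact (invol_Omega_iff hQ _).2 ⟨he1 k, by show rk (toSp hQ (e k).1) ≠ 0; rw [he2]; omega⟩
    · refine (invol_Omega_iff hQ _).2 ⟨ht1 u, ?_⟩
      show rk (toSp hQ (twin u).1) ≠ 0
      rw [ht2 u]
      intro h0
      obtain ⟨b, hb1, hb2, -, hb3, -⟩ := htwin u (twin u) (ht1 u) (ht2 u) (ht3 u)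
      refine hb3 (_root_.isConj_iff.2 ⟨1, ?_⟩)
      rw [show twin u = b from Subtype.ext (toSp_injective hQ (by
        rw [SympInv.eq_one_of_rk ((ht2 u).trans h0), SympInv.eq_one_of_rk (hb2.trans h0)]))]
      group
  · intro g hg
    obtain ⟨hgg, hne⟩ := (invol_Omega_iff hQ g).1 hg
    obtain ⟨j, hj⟩ := (mem_Omega_iff hQ hc g.1).1 g.2
    have hle := SympInv.rk_le (toSp_sq hQ hgg)
    by_cases ha : Alt (toSp hQ g.1)
    · have := hbd g.1 hgg ha
      let k : Fin (M / 2) := ⟨j - 1, by omega⟩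
      by_cases htop : rk (toSp hQ g.1) = m
      · obtain ⟨u⟩ := hT g hgg htop ha (by omega)
        obtain ⟨b, hb1, hb2, hb3, hb4, hb5⟩ := htwin u g hgg htop ha
        rcases hb5 with h | h
        · exact ⟨Sum.inr u, h⟩
        · refine ⟨Sum.inl (Sum.inr k), ?_⟩
          have hek : rk (toSp hQ (e k).1) = m := by rw [he2, ← htop, hj]; show 2 * (j - 1 + 1) = j + j; omega
          show IsConj (e k) g
          obtain ⟨x, hx⟩ := _root_.isConj_iff.1 ((isConj_iff hQ (he1 k) hgg).2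
            ⟨hek.trans htop.symm, iff_of_true (he3 k) ha⟩)
          obtain ⟨y, hy⟩ := _root_.isConj_iff.1 ((isConj_iff hQ (ht1 u) (he1 k)).2
            ⟨(ht2 u).trans hek.symm, iff_of_true (ht3 u) (he3 k)⟩)
          have hyO : y ∉ Cfsg.Omega F ⇑Q := fun hh =>
            he4 k u (_root_.isConj_iff.2 ⟨⟨y, hh⟩, Subtype.ext hy⟩)
          by_cases hxO : x ∈ Cfsg.Omega F ⇑Q
          · exact _root_.isConj_iff.2 ⟨⟨x, hxO⟩, Subtype.ext hx⟩
          · have hug : IsConj (twin u) g := _root_.isConj_iff.2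
              ⟨⟨x * y, (mul_mem_Omega_iff hQ hc x y).2 (iff_of_false hxO hyO)⟩, Subtype.ext (by
                show x * y * (twin u).1 * (x * y)⁻¹ = g.1
                rw [← hx, ← hy]; group)⟩
            exact absurd (hug.trans h.symm) hb4
      · exact ⟨Sum.inl (Sum.inr k), (hconj g (e k) hgg (he1 k) (by rw [he2, hj]; show _ = 2 * (j - 1 + 1); omega)
          (iff_of_true ha (he3 k)) fun hh => htop hh.1).symm⟩
    · let k : Fin (m / 2) := ⟨j - 1, by omega⟩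
      exact ⟨Sum.inl (Sum.inl k), (hconj g (d k) hgg (hd1 k) (by rw [hd2, hj]; show _ = 2 * (j - 1 + 1); omega)
        (iff_of_false ha (hd3 k)) fun hh => ha hh.2).symm⟩
  · rintro ((k | k) | u) ((k' | k') | u') h <;> simp only [rep, Sum.elim_inl, Sum.elim_inr] at h
    · have h1 := ((isConj_iff hQ (hd1 k) (hd1 k')).1 (isConj_of_Omega hQ h)).1
      rw [hd2, hd2] at h1
      exact congrArg (fun x => Sum.inl (Sum.inl x)) (Fin.ext (by omega))
    · exact absurd (((isConj_iff hQ (hd1 k) (he1 k')).1 (isConj_of_Omega hQ h)).2.2 (he3 k')) (hd3 k)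
    · exact absurd (((isConj_iff hQ (hd1 k) (ht1 u')).1 (isConj_of_Omega hQ h)).2.2 (ht3 u')) (hd3 k)
    · exact absurd (((isConj_iff hQ (he1 k) (hd1 k')).1 (isConj_of_Omega hQ h)).2.1 (he3 k)) (hd3 k')
    · have h1 := ((isConj_iff hQ (he1 k) (he1 k')).1 (isConj_of_Omega hQ h)).1
      rw [he2, he2] at h1
      exact congrArg (fun x => Sum.inl (Sum.inr x)) (Fin.ext (by omega))
    · exact absurd h.symm (he4 k u')
    · exact absurd (((isConj_iff hQ (ht1 u) (hd1 k')).1 (isConj_of_Omega hQ h)).2.1 (ht3 u)) (hd3 k')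
    · exact absurd h (he4 k' u)
    · exact congrArg Sum.inr (ht4.elim u u')

end classes

/-! ### The plus type -/

theorem hc_plus [Fintype F] (h : Fintype.card F ≠ 2 ∨ m ≠ 2) :
    Subgroup.closure (SpinorNorm.Refl (Qp m F)) = ⊤ := by
  refine SpinorMatrix.hc_of _ (nondeg Qp_polar) (SpinorMatrix.field_cond ?_)
  rcases h with h | h
  · exact Or.inl h
  · refine Or.inr ?_
    rw [Fintype.card_sum, Fintype.card_fin]
    omega

/-- The linear change for the plus form. -/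
theorem plus_hT (x : Vec) :
    Qp m F (LinearEquiv.refl F (Fin m ⊕ Fin m → F) x) = Cfsg.quadFormPlus m F x := Qp_apply x

theorem plus_classes [Finite F] :
    Nat.card {C : ConjClasses ↥(Cfsg.isometryGroup F ⇑(Qp m F)) //
      ∃ g, ConjClasses.mk g = C ∧ orderOf g = 2} = m + m / 2 :=
  card_invol_classes Qp_polar (fun s h1 h2 => plus_not_alt h2 h1) (fun r hr => plus_alt hr)
    (fun a ha _ => SympInv.rk_le (toSp_sq Qp_polar ha))

theorem plus_Omega_classes [Fintype F] (hm : 1 ≤ m) (h : Fintype.card F ≠ 2 ∨ m ≠ 2) :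
    Nat.card {C : ConjClasses ↥(Cfsg.Omega F ⇑(Qp m F)) //
      ∃ g, ConjClasses.mk g = C ∧ orderOf g = 2} = 2 * (m / 2) + if Even m then 1 else 0 := by
  classical
  have hc := hc_plus (F := F) h
  have htop : ∀ u : {_u : Fin 1 // Even m}, ∃ a : ↥(Cfsg.Omega F ⇑(Qp m F)), a.1 * a.1 = 1 ∧
      rk (toSp Qp_polar a.1) = m ∧ Alt (toSp Qp_polar a.1) := fun u => by
    obtain ⟨r, hr⟩ := u.2
    obtain ⟨a, h1, h2, h3⟩ := plus_alt (F := F) (m := m) (r := r) (by omega)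
    exact ⟨⟨a, (mem_Omega_iff Qp_polar hc a).2 (h2 ▸ even_two_mul _)⟩, h1, h2.trans (by omega), h3⟩
  choose t ht1 ht2 ht3 using htop
  obtain ⟨r, hr⟩ : ∃ r : Cfsg.isometryGroup F ⇑(Qp m F), r ∉ Cfsg.Omega F ⇑(Qp m F) := by
    obtain ⟨v, hv⟩ : ∃ v, Qp m F v ≠ 0 := by
      by_contra hcon
      push Not at hcon
      have := finrank_le_of_singular Qp_polar ⊤ fun u _ => hcon u
      rw [finrank_top, Module.finrank_fintype_fun_eq_card, Fintype.card_sum, Fintype.card_fin] at this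
      omega
    obtain ⟨r, -, hr⟩ := exists_refl Qp_polar hv
    exact ⟨r, refl_not_mem Qp_polar hc hv hr⟩
  rw [card_Omega_classes Qp_polar (fun s h1 h2 => plus_not_alt h2 h1) (fun r hr => plus_alt hr)
    (fun a ha _ => SympInv.rk_le (toSp_sq Qp_polar ha)) le_rfl hc t ht1 ht2 ht3 inferInstance]
  · rw [two_mul, show Nat.card {_u : Fin 1 // Even m} = if Even m then 1 else 0 by
      split_ifs with he <;> simp [he]]
  · intro u a ha1 ha2 ha3
    have hN : (Cfsg.Omega F ⇑(Qp m F)).Normal := inferInstance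
    let b : ↥(Cfsg.Omega F ⇑(Qp m F)) := ⟨r * (t u).1 * r⁻¹, hN.conj_mem _ (t u).2 r⟩
    have hbt : IsConj (t u).1 b.1 := _root_.isConj_iff.2 ⟨r, rfl⟩
    have hb1 : b.1 * b.1 = 1 := by
      show r * (t u).1 * r⁻¹ * (r * (t u).1 * r⁻¹) = 1
      rw [show r * (t u).1 * r⁻¹ * (r * (t u).1 * r⁻¹) = r * ((t u).1 * (t u).1) * r⁻¹ by group, ht1 u]
      group
    obtain ⟨e1, e2⟩ := (isConj_iff Qp_polar (ht1 u) hb1).1 hbt
    refine ⟨b, hb1, e1.symm.trans (ht2 u), e2.1 (ht3 u), ?_, ?_⟩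
    · intro hh
      obtain ⟨⟨g, hg⟩, hgb⟩ := _root_.isConj_iff.1 hh
      have hgb' : g * (t u).1 * g⁻¹ = r * (t u).1 * r⁻¹ := congrArg Subtype.val hgb
      have hcomm : r⁻¹ * g * (t u).1 = (t u).1 * (r⁻¹ * g) := by
        calc r⁻¹ * g * (t u).1 = r⁻¹ * (g * (t u).1 * g⁻¹) * g := by group
          _ = _ := by rw [hgb']; group
      have := centralizer_le_Omega hc (ht2 u) (ht3 u) hcomm
      rw [mul_mem_Omega_iff Qp_polar hc, Subgroup.inv_mem_iff, iff_false_left hr] at this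
      exact this hg
    · obtain ⟨g, hg⟩ := _root_.isConj_iff.1 ((isConj_iff Qp_polar (ht1 u) ha1).2
        ⟨(ht2 u).trans ha2.symm, iff_of_true (ht3 u) ha3⟩)
      by_cases hgO : g ∈ Cfsg.Omega F ⇑(Qp m F)
      · exact Or.inl (_root_.isConj_iff.2 ⟨⟨g, hgO⟩, Subtype.ext hg⟩)
      · refine Or.inr (_root_.isConj_iff.2 ⟨⟨g * r⁻¹, (mul_mem_Omega_iff Qp_polar hc g r⁻¹).2
          (iff_of_false hgO fun hh => hr ((Subgroup.inv_mem_iff _).1 hh))⟩, Subtype.ext ?_⟩)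
        show g * r⁻¹ * (r * (t u).1 * r⁻¹) * (g * r⁻¹)⁻¹ = a.1
        rw [← hg]; group
  · intro a ha1 ha2 ha3 _
    obtain ⟨j, hj, -⟩ := SympInv.rk_alt (toSp_sq Qp_polar ha1) ha3
    exact ⟨⟨0, j, by omega⟩⟩

/-- The centraliser in `Ω` of a non-alternating involution. -/
theorem centralizer_Omega_not_alt [Fintype F] (hc : Subgroup.closure (SpinorNorm.Refl (Qp m F)) = ⊤)
    {a : Cfsg.isometryGroup F ⇑(Qp m F)} (ha : a * a = 1) (h : ¬ Alt (toSp Qp_polar a)) :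
    Nat.card {g : ↥(Cfsg.Omega F ⇑(Qp m F)) // g.1 * a = a * g.1} *
      Nat.card F ^ (2 * m - rk (toSp Qp_polar a)) =
        Nat.card (Subgroup.centralizer ({toSp Qp_polar a} : Set (Matrix.symplecticGroup (Fin m) F))) := by
  obtain ⟨r, hr, hrO⟩ := exists_odd_commuting Qp_polar hc ha fun hh => h hh.2
  rw [card_centralizer_symp, ← two_mul_card_centralizer_Omega Qp_polar hc hr hrO, ← card_shift_not_alt Qp_polar ha h]
  ring

/-- The centraliser in `Ω` of an alternating involution of less than full rank. -/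
theorem centralizer_Omega_alt [Fintype F] (hc : Subgroup.closure (SpinorNorm.Refl (Qp m F)) = ⊤)
    {a : Cfsg.isometryGroup F ⇑(Qp m F)} (ha : a * a = 1) (h : Alt (toSp Qp_polar a))
    (hlt : rk (toSp Qp_polar a) ≠ m) :
    Nat.card {g : ↥(Cfsg.Omega F ⇑(Qp m F)) // g.1 * a = a * g.1} *
      ((Nat.card F ^ (m - rk (toSp Qp_polar a)) + 1) * Nat.card F ^ m) =
        Nat.card (Subgroup.centralizer ({toSp Qp_polar a} : Set (Matrix.symplecticGroup (Fin m) F))) := by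
  obtain ⟨r, hr, hrO⟩ := exists_odd_commuting Qp_polar hc ha fun hh => hlt hh.1
  rw [card_centralizer_symp, ← two_mul_card_centralizer_Omega Qp_polar hc hr hrO, ← card_shift_alt ha h]
  ring

/-- The centraliser in `Ω` of an alternating involution of full rank. -/
theorem centralizer_Omega_top [Fintype F] (hc : Subgroup.closure (SpinorNorm.Refl (Qp m F)) = ⊤)
    {a : Cfsg.isometryGroup F ⇑(Qp m F)} (ha : a * a = 1) (h : Alt (toSp Qp_polar a))
    (hr : rk (toSp Qp_polar a) = m) :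
    Nat.card {g : ↥(Cfsg.Omega F ⇑(Qp m F)) // g.1 * a = a * g.1} * Nat.card F ^ m =
        Nat.card (Subgroup.centralizer ({toSp Qp_polar a} : Set (Matrix.symplecticGroup (Fin m) F))) := by
  have h2 := card_shift_alt ha h
  rw [hr, Nat.sub_self, pow_zero] at h2
  have e : Nat.card {g : ↥(Cfsg.Omega F ⇑(Qp m F)) // g.1 * a = a * g.1} =
      Nat.card {g : Cfsg.isometryGroup F ⇑(Qp m F) // g * a = a * g} :=
    Nat.card_congr ⟨fun g => ⟨g.1.1, g.2⟩, fun g => ⟨⟨g.1, centralizer_le_Omega hc hr h g.2⟩, g.2⟩,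
      fun _ => rfl, fun _ => rfl⟩
  rw [card_centralizer_symp, e]
  congr 1
  omega

/-- Transport of the centraliser. -/
theorem card_centralizer_transfer {κ : Type} [Fintype κ] [DecidableEq κ] {f : (κ → F) → F}
    {Q : QuadraticForm F (Fin m ⊕ Fin m → F)} (T : (κ → F) ≃ₗ[F] (Fin m ⊕ Fin m → F))
    (hT : ∀ x, Q (T x) = f x) (x : Cfsg.isometryGroup F f) :
    Nat.card {g : ↥(Cfsg.Omega F f) // g.1 * x = x * g.1} =
      Nat.card {g : ↥(Cfsg.Omega F ⇑Q) // g.1 * isoE T hT x = isoE T hT x * g.1} := by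
  refine Nat.card_congr (Equiv.subtypeEquiv
    ⟨fun g => ⟨isoE T hT g.1, (mem_Omega_isoE T hT g.1).2 g.2⟩,
      fun g => ⟨(isoE T hT).symm g.1, (mem_Omega_isoE T hT _).1 (by rw [MulEquiv.apply_symm_apply]; exact g.2)⟩,
      fun g => Subtype.ext ((isoE T hT).symm_apply_apply g.1),
      fun g => Subtype.ext ((isoE T hT).apply_symm_apply g.1)⟩ fun g => ?_)
  show _ ↔ isoE T hT g.1 * isoE T hT x = isoE T hT x * isoE T hT g.1
  rw [← map_mul, ← map_mul, (isoE T hT).injective.eq_iff]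

/-- Transport of `Ω`. -/
noncomputable def omegaE {κ : Type} [Fintype κ] [DecidableEq κ] {f : (κ → F) → F}
    {Q : QuadraticForm F (Fin m ⊕ Fin m → F)} (T : (κ → F) ≃ₗ[F] (Fin m ⊕ Fin m → F))
    (hT : ∀ x, Q (T x) = f x) : ↥(Cfsg.Omega F f) ≃* ↥(Cfsg.Omega F ⇑Q) where
  toFun g := ⟨isoE T hT g.1, (mem_Omega_isoE T hT g.1).2 g.2⟩
  invFun g := ⟨(isoE T hT).symm g.1, (mem_Omega_isoE T hT _).1 (by rw [MulEquiv.apply_symm_apply]; exact g.2)⟩
  left_inv g := Subtype.ext ((isoE T hT).symm_apply_apply g.1)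
  right_inv g := Subtype.ext ((isoE T hT).apply_symm_apply g.1)
  map_mul' g h := Subtype.ext (map_mul (isoE T hT) g.1 h.1)

/-! ### The minus type -/

section minus

variable {k : ℕ} {a b : F}

theorem minus_a_ne_zero [Finite F] (hab : ∀ z₁ z₂ : F, z₁ ^ 2 + a * z₁ * z₂ + b * z₂ ^ 2 = 0 → z₁ = 0 ∧ z₂ = 0) :
    a ≠ 0 := by
  haveI := Fintype.ofFinite F
  exact OrthOrder.bin_a_ne_zero hab CharTwo.two_eq_zero

theorem minus_bd [Finite F] (hab : ∀ z₁ z₂ : F, z₁ ^ 2 + a * z₁ * z₂ + b * z₂ ^ 2 = 0 → z₁ = 0 ∧ z₂ = 0)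
    (g : Cfsg.isometryGroup F ⇑(Qd (lastVec k 1) (lastVec k (b / a ^ 2)))) (hg : g * g = 1)
    (h : Alt (toSp (Qd_polar _ _) g)) : rk (toSp (Qd_polar _ _) g) ≤ k := by
  have h1 := SympInv.rk_le (toSp_sq (Qd_polar _ _) hg)
  have h2 := minus_not_top hab (minus_a_ne_zero hab) g
  by_contra hcon
  exact h2 ⟨by omega, h⟩

theorem hc_minus [Fintype F] (hab : ∀ z₁ z₂ : F, z₁ ^ 2 + a * z₁ * z₂ + b * z₂ ^ 2 = 0 → z₁ = 0 ∧ z₂ = 0) :
    Subgroup.closure (SpinorNorm.Refl (Qd (lastVec k 1) (lastVec k (b / a ^ 2)))) = ⊤ := by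
  have hnd := nondeg (Qd_polar (lastVec k 1) (lastVec k (b / a ^ 2)))
  by_cases hk : k = 1
  · refine ReflectionGenLine.closure_refl _ hnd fun d w hd0 hd hdw hw => ?_
    by_contra hwd
    set S := Submodule.span F ({d, w} : Set (Fin (k + 1) ⊕ Fin (k + 1) → F))
    have hS : finrank F S = 2 := by
      have hli : LinearIndependent F ![d, w] := by
        rw [LinearIndependent.pair_iff' hd0]
        exact fun c hc => hwd (Submodule.mem_span_singleton.mpr ⟨c, hc⟩)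
      have := finrank_span_eq_card hli
      rw [Matrix.range_cons_cons_empty] at this
      simpa [S] using this
    have hle := FiniteForms.minus_totally_singular_le hab
      (S.map ((minusT (k := k) (minus_a_ne_zero hab)).symm.toLinearMap)) (by
        rintro _ ⟨x, hx, rfl⟩
        show Cfsg.quadFormMinus k F a b ((minusT (minus_a_ne_zero hab)).symm x) = 0
        rw [← minusT_form (minus_a_ne_zero hab), LinearEquiv.apply_symm_apply]
        obtain ⟨c, e, rfl⟩ := Submodule.mem_span_pair.mp hx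
        rw [QuadraticMap.map_add (Qd _ _), QuadraticMap.map_smul, QuadraticMap.map_smul, hd, hw, polar_smul_left,
          polar_smul_right, hdw]
        simp)
    rw [LinearEquiv.finrank_map_eq, hS] at hle
    omega
  · refine SpinorMatrix.hc_of _ hnd (Or.inr ?_)
    rw [Fintype.card_sum, Fintype.card_fin]
    omega

theorem minus_classes [Finite F] (hab : ∀ z₁ z₂ : F, z₁ ^ 2 + a * z₁ * z₂ + b * z₂ ^ 2 = 0 → z₁ = 0 ∧ z₂ = 0) :
    Nat.card {C : ConjClasses ↥(Cfsg.isometryGroup F ⇑(Qd (lastVec k 1) (lastVec k (b / a ^ 2)))) //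
      ∃ g, ConjClasses.mk g = C ∧ orderOf g = 2} = k + 1 + k / 2 :=
  card_invol_classes (Qd_polar _ _) (fun s h1 h2 => minus_not_alt h2 h1 _) (fun r hr => minus_alt hr _)
    (minus_bd hab)

theorem minus_Omega_classes [Fintype F]
    (hab : ∀ z₁ z₂ : F, z₁ ^ 2 + a * z₁ * z₂ + b * z₂ ^ 2 = 0 → z₁ = 0 ∧ z₂ = 0) :
    Nat.card {C : ConjClasses ↥(Cfsg.Omega F ⇑(Qd (lastVec k 1) (lastVec k (b / a ^ 2)))) //
      ∃ g, ConjClasses.mk g = C ∧ orderOf g = 2} = (k + 1) / 2 + k / 2 := by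
  rw [card_Omega_classes (Qd_polar _ _) (fun s h1 h2 => minus_not_alt h2 h1 _) (fun r hr => minus_alt hr _)
    (minus_bd hab) (by omega) (hc_minus hab) (T := Empty) Empty.elim (fun u => u.elim) (fun u => u.elim)
    (fun u => u.elim) inferInstance (fun u => u.elim)]
  · simp
  · intro g h1 h2 h3 _
    have := minus_bd hab g.1 h1 h3
    omega

end minus

end CfsgLib.SympOrth
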